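import Groth.Agent.WeilLib.Geometry
import Mathlib.RingTheory.NoetherNormalization
import Mathlib.RingTheory.Ideal.HasGoingUp
import Mathlib.RingTheory.AlgebraicIndependent.TranscendenceBasis
import Mathlib.RingTheory.AlgebraicIndependent.Transcendental
import Mathlib.RingTheory.LocalRing.ResidueField.Ideal

/-!
# The dimension of the closure of a point is the transcendence degree of its residue field
-/

universe u

noncomputable section

open AlgebraicGeometry CategoryTheory WeilCoh Topology TopologicalSpace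

namespace WeilLib

section Ring

/-- An injective integral map preserves the Krull dimension. -/
lemma ringKrullDim_eq_of_integral (R S : Type u) [CommRing R] [CommRing S] [Algebra R S]
    [Algebra.IsIntegral R S] (hinj : Function.Injective (algebraMap R S)) :
    ringKrullDim S = ringKrullDim R := by
  refine le_antisymm ?_ ?_
  · refine Order.krullDim_le_of_strictMono (fun P => PrimeSpectrum.comap (algebraMap R S) P) ?_
    intro P Q hPQ
    exact Ideal.IsIntegral.comap_lt_comap (R := R) hPQ
  · refine iSup_le fun l => ?_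
    have : FaithfulSMul R S := (faithfulSMul_iff_algebraMap_injective R S).2 hinj
    obtain ⟨⟨P, hP, hPl⟩⟩ := Ideal.nonempty_primesOver (S := S) (RelSeries.head l).asIdeal
    have := hP
    have := hPl
    obtain ⟨L, hlen, -, -⟩ := Ideal.exists_ltSeries_of_hasGoingUp l P
    rw [← hlen]
    exact Order.LTSeries.length_le_krullDim L

variable (k : Type u) [Field k]

/-- Noether normalisation, packaged: dimension and transcendence degree of the fraction field. -/
lemma dim_eq_trdeg (A F : Type u) [CommRing A] [IsDomain A] [Algebra k A]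
    [Algebra.FiniteType k A] [Field F] [Algebra k F] [Algebra A F] [IsScalarTower k A F]
    [IsFractionRing A F] :
    ∃ s : ℕ, ringKrullDim A = (s : WithBot ℕ∞) ∧ Algebra.trdeg k F = (s : Cardinal) := by
  obtain ⟨s, g, hinj, hfin⟩ := exists_finite_inj_algHom_of_fg k A
  refine ⟨s, ?_, ?_⟩
  · letI := g.toRingHom.toAlgebra
    have : Module.Finite (MvPolynomial (Fin s) k) A := hfin
    rw [ringKrullDim_eq_of_integral (MvPolynomial (Fin s) k) A hinj,
      MvPolynomial.ringKrullDim_of_isNoetherianRing, ringKrullDim_eq_zero_of_field, zero_add]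
    simp
  · letI := g.toRingHom.toAlgebra
    have : Module.Finite (MvPolynomial (Fin s) k) A := hfin
    have : IsScalarTower k (MvPolynomial (Fin s) k) A :=
      IsScalarTower.of_algebraMap_eq fun x => (g.commutes x).symm
    have : FaithfulSMul (MvPolynomial (Fin s) k) A :=
      (faithfulSMul_iff_algebraMap_injective _ _).2 hinj
    letI : Algebra (MvPolynomial (Fin s) k) F :=
      ((algebraMap A F).comp (algebraMap (MvPolynomial (Fin s) k) A)).toAlgebra
    have : IsScalarTower (MvPolynomial (Fin s) k) A F := IsScalarTower.of_algebraMap_eq' rfl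
    have : IsScalarTower k (MvPolynomial (Fin s) k) F := IsScalarTower.of_algebraMap_eq fun x => by
      rw [IsScalarTower.algebraMap_apply (MvPolynomial (Fin s) k) A F,
        ← IsScalarTower.algebraMap_apply k (MvPolynomial (Fin s) k) A,
        ← IsScalarTower.algebraMap_apply k A F]
    have : FaithfulSMul (MvPolynomial (Fin s) k) F := (faithfulSMul_iff_algebraMap_injective _ _).2
      ((IsFractionRing.injective A F).comp hinj)
    have : Algebra.IsAlgebraic (MvPolynomial (Fin s) k) A := Algebra.IsIntegral.isAlgebraic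
    have : Algebra.IsAlgebraic A F := IsLocalization.isAlgebraic F (nonZeroDivisors A)
    have : Algebra.IsAlgebraic (MvPolynomial (Fin s) k) F := Algebra.IsAlgebraic.trans _ A F
    rw [← trdeg_add_eq k (MvPolynomial (Fin s) k), trdeg_eq_zero (R := MvPolynomial (Fin s) k), add_zero,
      MvPolynomial.trdeg_of_isDomain]
    simp

end Ring

section Scheme

variable {k : Type u} [Field k]

/-- The residue field of a point of a scheme over `k`, as a `k`-algebra. -/
def kappaMap (X : Over (Spec (CommRingCat.of k))) (ξ : X.left) :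
    CommRingCat.of k ⟶ X.left.residueField ξ :=
  (Scheme.ΓSpecIso _).inv ≫ X.hom.appTop ≫ X.left.Γevaluation ξ

lemma structMap_evaluation (X : Over (Spec (CommRingCat.of k))) (U : X.left.Opens) (ξ : X.left)
    (hξ : ξ ∈ U) : structMap X U ≫ X.left.evaluation U ξ hξ = kappaMap X ξ := by
  simp only [structMap, kappaMap, Scheme.Γevaluation, Scheme.evaluation, Category.assoc,
    Scheme.Hom.appLE, Scheme.Hom.appTop]
  congr 2
  rw [← Category.assoc, X.left.presheaf.germ_res]
  rfl

lemma kappaMap_comp {X Y : Over (Spec (CommRingCat.of k))} (f : X ⟶ Y) (ξ : X.left) :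
    kappaMap Y (f.left ξ) ≫ f.left.residueFieldMap ξ = kappaMap X ξ := by
  have hw : f.left ≫ Y.hom = X.hom := Over.w f
  simp only [kappaMap, Category.assoc, Scheme.Γevaluation_naturality]
  rw [← Scheme.Hom.comp_appTop_assoc, hw]

lemma primeIdealOf_eq_ker {X : Scheme.{u}} {U : X.Opens} (hU : IsAffineOpen U) (ξ : X)
    (hξ : ξ ∈ U) :
    (hU.primeIdealOf ⟨ξ, hξ⟩).asIdeal = RingHom.ker (X.evaluation U ξ hξ).hom := by
  ext a
  rw [RingHom.mem_ker]
  letI := X.presheaf.algebra_section_stalk ⟨ξ, hξ⟩
  haveI := hU.isLocalization_stalk ⟨ξ, hξ⟩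
  rw [← IsLocalization.AtPrime.to_map_mem_maximal_iff (X.presheaf.stalk ξ)
    (hU.primeIdealOf ⟨ξ, hξ⟩).asIdeal a, ← IsLocalRing.residue_eq_zero_iff]
  rfl

lemma surjective_div_evaluation {X : Scheme.{u}} {U : X.Opens} (hU : IsAffineOpen U) (ξ : X)
    (hξ : ξ ∈ U) (z : X.residueField ξ) :
    ∃ a b : Γ(X, U), X.evaluation U ξ hξ b ≠ 0 ∧
      z * X.evaluation U ξ hξ b = X.evaluation U ξ hξ a := by
  letI := X.presheaf.algebra_section_stalk ⟨ξ, hξ⟩
  haveI := hU.isLocalization_stalk ⟨ξ, hξ⟩
  obtain ⟨w, rfl⟩ := X.residue_surjective ξ z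
  obtain ⟨⟨a, b⟩, hab⟩ := IsLocalization.surj (hU.primeIdealOf ⟨ξ, hξ⟩).asIdeal.primeCompl w
  refine ⟨a, b, fun h => b.2 ?_, ?_⟩
  · exact (primeIdealOf_eq_ker hU ξ hξ).ge (RingHom.mem_ker.2 h)
  · exact (map_mul (X.residue ξ).hom w _).symm.trans (congrArg (X.residue ξ) hab)

set_option maxHeartbeats 400000 in
/-- The dimension of the closure of a point is the transcendence degree of its residue field. -/
lemma pdim_eq_trdeg (X : Over (Spec (CommRingCat.of k))) [LocallyOfFiniteType X.hom] (ξ : X.left) :
    letI := (kappaMap X ξ).hom.toAlgebra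
    ∃ s : ℕ, topologicalKrullDim ↥(closure ({ξ} : Set X.left)) = (s : WithBot ℕ∞) ∧
      Algebra.trdeg k (X.left.residueField ξ) = (s : Cardinal) := by
  letI := (kappaMap X ξ).hom.toAlgebra
  -- on every affine neighbourhood of `ξ`
  have key : ∀ U : X.left.affineOpens, ξ ∈ U.1 → ∃ s : ℕ,
      topologicalKrullDim
        ↥((Subtype.val : ↥(closure ({ξ} : Set X.left)) → X.left) ⁻¹' (U.1 : Set X.left)) =
        (s : WithBot ℕ∞) ∧
      Algebra.trdeg k (X.left.residueField ξ) = (s : Cardinal) := by
    intro U hξ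
    have hU : IsAffineOpen (U.1 : X.left.Opens) := U.2
    letI := (structMap X U).hom.toAlgebra
    haveI : Algebra.FiniteType k Γ(X.left, U) := structMap_finiteType X hU
    let p := (hU.primeIdealOf ⟨ξ, hξ⟩).asIdeal
    let e : Γ(X.left, U) ⧸ p →+* X.left.residueField ξ :=
      Ideal.Quotient.lift p (X.left.evaluation U ξ hξ).hom
        (fun a ha => RingHom.mem_ker.1 ((primeIdealOf_eq_ker hU ξ hξ).le ha))
    letI : Algebra (Γ(X.left, U) ⧸ p) (X.left.residueField ξ) := e.toAlgebra
    have he : Function.Injective e := by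
      rw [injective_iff_map_eq_zero]
      intro a ha
      obtain ⟨a, rfl⟩ := Ideal.Quotient.mk_surjective a
      rw [Ideal.Quotient.eq_zero_iff_mem]
      change a ∈ p
      rw [show p = _ from primeIdealOf_eq_ker hU ξ hξ]
      exact ha
    haveI : IsFractionRing (Γ(X.left, U) ⧸ p) (X.left.residueField ξ) := by
      have : FaithfulSMul (Γ(X.left, U) ⧸ p) (X.left.residueField ξ) :=
        (faithfulSMul_iff_algebraMap_injective _ _).2 he
      refine IsFractionRing.of_field _ _ fun z => ?_
      obtain ⟨a, b, hb, hab⟩ := surjective_div_evaluation hU ξ hξ z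
      exact ⟨Ideal.Quotient.mk p a, Ideal.Quotient.mk p b, (eq_div_iff hb).2 hab⟩
    haveI : IsScalarTower k (Γ(X.left, U) ⧸ p) (X.left.residueField ξ) :=
      IsScalarTower.of_algebraMap_eq fun x =>
        (ConcreteCategory.congr_hom (structMap_evaluation X U ξ hξ) x).symm
    obtain ⟨s, hs, hs'⟩ := dim_eq_trdeg k (Γ(X.left, U) ⧸ p) (X.left.residueField ξ)
    refine ⟨s, ?_, hs'⟩
    rw [← hs, ← PrimeSpectrum.topologicalKrullDim_eq_ringKrullDim]
    -- `closure {ξ} ∩ U` is the image of `Spec (Γ(X, U) ⧸ p)`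
    haveI : IsOpenImmersion hU.fromSpec := inferInstance
    have hφ : IsOpenEmbedding hU.fromSpec := hU.fromSpec.isOpenEmbedding
    have hp : hU.fromSpec (hU.primeIdealOf ⟨ξ, hξ⟩) = ξ := hU.fromSpec_primeIdealOf ⟨ξ, hξ⟩
    have hpre : hU.fromSpec ⁻¹' closure ({ξ} : Set X.left) =
        Set.range (PrimeSpectrum.comap (Ideal.Quotient.mk p)) := by
      rw [hφ.isOpenMap.preimage_closure_eq_closure_preimage hφ.continuous,
        range_comap_of_surjective _ _ Ideal.Quotient.mk_surjective, Ideal.mk_ker,
        ← PrimeSpectrum.closure_singleton]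
      congr 1
      ext z
      simp only [Set.mem_preimage, Set.mem_singleton_iff]
      exact ⟨fun h => hφ.injective (h.trans hp.symm), fun h => h ▸ hp⟩
    let ψ : PrimeSpectrum (Γ(X.left, U) ⧸ p) → X.left :=
      fun z => hU.fromSpec (PrimeSpectrum.comap (Ideal.Quotient.mk p) z)
    have hψ : IsEmbedding ψ := hφ.isEmbedding.comp
      (PrimeSpectrum.isClosedEmbedding_comap_of_surjective _ _
        Ideal.Quotient.mk_surjective).isEmbedding
    have hrange : Set.range ψ = closure ({ξ} : Set X.left) ∩ (U.1 : Set X.left) := by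
      change Set.range (hU.fromSpec ∘ PrimeSpectrum.comap (Ideal.Quotient.mk p)) = _
      refine (Set.range_comp hU.fromSpec _).trans ?_
      refine (congrArg (fun s => hU.fromSpec '' s) hpre.symm).trans ?_
      exact (Set.image_preimage_eq_inter_range).trans (by rw [hU.range_fromSpec])
    have e : ↥((Subtype.val : ↥(closure ({ξ} : Set X.left)) → X.left) ⁻¹' (U.1 : Set X.left)) ≃ₜ
        PrimeSpectrum (Γ(X.left, U) ⧸ p) :=
      ((IsEmbedding.subtypeVal.homeomorphImage _).trans (Homeomorph.setCongr (by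
        rw [Subtype.image_preimage_coe, hrange]))).trans hψ.toHomeomorph.symm
    exact IsHomeomorph.topologicalKrullDim_eq e e.isHomeomorph
  obtain ⟨U₀, hU₀, hξ₀, -⟩ := exists_isAffineOpen_mem_and_subset (x := ξ) (U := ⊤) trivial
  obtain ⟨s, hs, hs'⟩ := key ⟨U₀, hU₀⟩ hξ₀
  refine ⟨s, le_antisymm ?_ (hs ▸ topologicalKrullDim_subspace_le _ _), hs'⟩
  refine topologicalKrullDim_le_of_forall_mem fun x => ?_
  obtain ⟨U, hU, hx, -⟩ := exists_isAffineOpen_mem_and_subset (x := x.1) (U := ⊤) trivial
  have hξ : ξ ∈ U := (specializes_iff_mem_closure.2 x.2).mem_open U.isOpen hx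
  obtain ⟨t, ht, ht'⟩ := key ⟨U, hU⟩ hξ
  refine ⟨_, U.isOpen.preimage continuous_subtype_val, hx, ?_⟩
  rw [ht]
  have : t = s := by exact_mod_cast ht'.symm.trans hs'
  rw [this]

/-- A finite residue extension preserves the dimension of the closure. -/
lemma pdim_eq_of_residueDegree_ne_zero {X Y : Over (Spec (CommRingCat.of k))}
    [LocallyOfFiniteType X.hom] [LocallyOfFiniteType Y.hom] (f : X ⟶ Y) (ξ : X.left)
    (h : f.left.residueDegree ξ ≠ 0) : pdim X.left ξ = pdim Y.left (f.left ξ) := by
  letI := (kappaMap X ξ).hom.toAlgebra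
  letI := (kappaMap Y (f.left ξ)).hom.toAlgebra
  letI := (f.left.residueFieldMap ξ).hom.toAlgebra
  haveI : IsScalarTower k (Y.left.residueField (f.left ξ)) (X.left.residueField ξ) :=
    IsScalarTower.of_algebraMap_eq fun x =>
      (ConcreteCategory.congr_hom (kappaMap_comp f ξ) x).symm
  haveI : Module.Finite (Y.left.residueField (f.left ξ)) (X.left.residueField ξ) :=
    Module.finite_of_finrank_pos (Nat.pos_of_ne_zero h)
  obtain ⟨s, hs, hs'⟩ := pdim_eq_trdeg X ξ
  obtain ⟨t, ht, ht'⟩ := pdim_eq_trdeg Y (f.left ξ)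
  have hte := trdeg_add_eq k (Y.left.residueField (f.left ξ)) (A := X.left.residueField ξ)
  rw [trdeg_eq_zero (R := Y.left.residueField (f.left ξ)), add_zero] at hte
  have : (t : Cardinal) = s := ht'.symm.trans (hte.trans hs')
  have : t = s := by exact_mod_cast this
  simp only [pdim, natDim, hs, ht, this]

end Scheme

end WeilLib
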