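import Mathlib.RingTheory.Smooth.Basic
import Mathlib.RingTheory.Smooth.Field
import Mathlib.RingTheory.LocalRing.ResidueField.Basic
import Mathlib.RingTheory.Noetherian.Basic
import Mathlib.RingTheory.Polynomial.Basic
import Mathlib.RingTheory.AdjoinRoot
import Mathlib.Tactic.Ring

/-!
# Formally smooth artinian local algebras over perfect fields are fields
-/

universe u

namespace WeilLib

open Polynomial IsLocalRing

/-- A formally smooth local algebra over a perfect field whose maximal ideal is nilpotent is a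
field. -/
theorem maximalIdeal_eq_bot_of_formallySmooth (k A : Type u) [Field k] [PerfectField k]
    [CommRing A] [IsLocalRing A] [IsNoetherianRing A] [Algebra k A] [Algebra.EssFiniteType k A]
    [Algebra.FormallySmooth k A] (hm : IsNilpotent (maximalIdeal A)) : maximalIdeal A = ⊥ := by
  classical
  by_contra hne
  obtain ⟨N, hN⟩ := hm
  have hsq : ¬ maximalIdeal A ≤ maximalIdeal A ^ 2 := by
    intro h
    apply hne
    have h' : ∀ n, maximalIdeal A ≤ maximalIdeal A ^ (n + 1) := by
      intro n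
      induction n with
      | zero => rw [pow_one]
      | succ n ih =>
        calc maximalIdeal A ≤ maximalIdeal A ^ 2 := h
          _ = maximalIdeal A * maximalIdeal A := sq _
          _ ≤ maximalIdeal A * maximalIdeal A ^ (n + 1) := Ideal.mul_mono le_rfl ih
          _ = maximalIdeal A ^ (n + 1 + 1) := (pow_succ' _ _).symm
    exact le_antisymm (((h' N).trans (Ideal.pow_le_pow_right (Nat.le_succ N))).trans hN.le) bot_le
  obtain ⟨x, hx, hx2⟩ := SetLike.not_le_iff_exists.1 hsq
  obtain ⟨J, ⟨hJ2, hxJ⟩, hmax⟩ : ∃ J : Ideal A, (maximalIdeal A ^ 2 ≤ J ∧ x ∉ J) ∧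
      ∀ I ∈ {J : Ideal A | maximalIdeal A ^ 2 ≤ J ∧ x ∉ J}, ¬ J < I :=
    set_has_maximal_iff_noetherian.2 inferInstance
      {J : Ideal A | maximalIdeal A ^ 2 ≤ J ∧ x ∉ J} ⟨_, le_rfl, hx2⟩
  -- a section of the residue map
  have : Algebra.FiniteType A (ResidueField A) :=
    (inferInstance : Algebra.FiniteType A A).of_surjective (Algebra.ofId A _) residue_surjective
  have : Algebra.EssFiniteType k (ResidueField A) := .comp k A _
  have hker : RingHom.ker (IsScalarTower.toAlgHom k A (ResidueField A) : A →+* ResidueField A)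
      = maximalIdeal A := IsLocalRing.ker_residue
  have hsurj : Function.Surjective (IsScalarTower.toAlgHom k A (ResidueField A)) :=
    residue_surjective
  let s : ResidueField A →ₐ[k] A := Algebra.FormallySmooth.liftOfSurjective
    (AlgHom.id k (ResidueField A)) (IsScalarTower.toAlgHom k A (ResidueField A)) hsurj
    ⟨N, by rw [hker]; exact hN⟩
  have hs : ∀ c, residue A (s c) = c := fun c =>
    Algebra.FormallySmooth.liftOfSurjective_apply _ _ hsurj _ c
  have hxx : x * x ∈ J := hJ2 (by rw [sq]; exact Ideal.mul_mem_mul hx hx)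
  -- every element is congruent to `s c + s e * x` modulo `J`
  have hdec : ∀ a : A, ∃ c e, a - (s c + s e * x) ∈ J := by
    intro a
    have hy : a - s (residue A a) ∈ maximalIdeal A := by
      rw [← IsLocalRing.residue_eq_zero_iff, map_sub, hs, sub_self]
    generalize hy' : a - s (residue A a) = y at hy
    refine ⟨residue A a, ?_⟩
    suffices ∃ e, y - s e * x ∈ J by
      obtain ⟨e, he⟩ := this
      exact ⟨e, by rwa [← hy', sub_sub] at he⟩
    by_cases hyJ : y ∈ J
    · exact ⟨0, by simpa using hyJ⟩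
    have hlt : ¬ (J ⊔ Ideal.span {y} : Ideal A) ∈
        {J : Ideal A | maximalIdeal A ^ 2 ≤ J ∧ x ∉ J} := fun h => hmax _ h
      (lt_of_le_of_ne le_sup_left fun e => hyJ
        (e ▸ Ideal.mem_sup_right (Ideal.mem_span_singleton_self y)))
    have hxmem : x ∈ J ⊔ Ideal.span {y} := by
      by_contra h
      exact hlt ⟨hJ2.trans le_sup_left, h⟩
    obtain ⟨j, hj, z, hz, hjz⟩ := Submodule.mem_sup.1 hxmem
    obtain ⟨b, rfl⟩ := Ideal.mem_span_singleton'.1 hz
    have hb : residue A b ≠ 0 := by
      intro hb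
      rw [IsLocalRing.residue_eq_zero_iff] at hb
      exact hxJ (hjz ▸ J.add_mem hj (hJ2 (by rw [sq]; exact Ideal.mul_mem_mul hb hy)))
    refine ⟨(residue A b)⁻¹, ?_⟩
    have hd : 1 - s (residue A b)⁻¹ * b ∈ maximalIdeal A := by
      rw [← IsLocalRing.residue_eq_zero_iff, map_sub, map_mul, hs, inv_mul_cancel₀ hb, map_one,
        sub_self]
    have e : y - s (residue A b)⁻¹ * x =
        (1 - s (residue A b)⁻¹ * b) * y - s (residue A b)⁻¹ * j := by
      rw [← hjz]; ring
    rw [e]
    exact J.sub_mem (hJ2 (by rw [sq]; exact Ideal.mul_mem_mul hd hy)) (J.mul_mem_left _ hj)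
  -- truncated polynomials over the residue field surject onto `A ⧸ J`
  let R := (ResidueField A)[X] ⧸ Ideal.span {(X : (ResidueField A)[X]) ^ (N + 2)}
  let s' : ResidueField A →+* A ⧸ J := (Ideal.Quotient.mk J).comp s.toRingHom
  let ψ' : (ResidueField A)[X] →+* A ⧸ J := eval₂RingHom s' (Ideal.Quotient.mk J x)
  have hψ' : ∀ p ∈ Ideal.span {(X : (ResidueField A)[X]) ^ (N + 2)}, ψ' p = 0 := by
    intro p hp
    obtain ⟨q, rfl⟩ := Ideal.mem_span_singleton'.1 hp
    have : Ideal.Quotient.mk J x ^ (N + 2) = 0 := by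
      rw [pow_add, ← map_pow _ x 2, pow_two x, Ideal.Quotient.eq_zero_iff_mem.2 hxx, mul_zero]
    simp [ψ', this]
  let ψ₀ : R →+* A ⧸ J := Ideal.Quotient.lift _ ψ' hψ'
  let ψ : R →ₐ[k] A ⧸ J := { ψ₀ with
    commutes' := fun r => by
      change ψ' (algebraMap k (ResidueField A)[X] r) = algebraMap k (A ⧸ J) r
      rw [IsScalarTower.algebraMap_apply k (ResidueField A) (ResidueField A)[X],
        Polynomial.algebraMap_eq]
      simp [ψ', s', ← Ideal.Quotient.mk_algebraMap] }
  have hψC : ∀ c, ψ (Ideal.Quotient.mk _ (C c)) = Ideal.Quotient.mk J (s c) := fun c => by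
    change ψ' (C c) = _; simp [ψ', s']
  have hψX : ψ (Ideal.Quotient.mk _ X) = Ideal.Quotient.mk J x := by
    change ψ' X = _; simp [ψ']
  have hψsurj : Function.Surjective ψ := by
    intro z
    obtain ⟨a, rfl⟩ := Ideal.Quotient.mk_surjective z
    obtain ⟨c, e, h⟩ := hdec a
    refine ⟨Ideal.Quotient.mk _ (C c + C e * X), ?_⟩
    rw [map_add, map_mul, map_add, map_mul, hψC, hψC, hψX, ← map_mul, ← map_add]
    exact (Ideal.Quotient.eq.2 h).symm
  let ε : R := Ideal.Quotient.mk _ X
  have hR : ∀ r : R, ∃ (c : ResidueField A) (r' : R),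
      r = Ideal.Quotient.mk _ (C c) + r' * ε := by
    intro r
    obtain ⟨p, rfl⟩ := Ideal.Quotient.mk_surjective r
    refine ⟨p.coeff 0, Ideal.Quotient.mk _ p.divX, ?_⟩
    change _ = _ + _ * Ideal.Quotient.mk _ X
    rw [← map_mul, ← map_add]
    conv_lhs => rw [← divX_mul_X_add p]
    exact congrArg _ (add_comm _ _)
  have hinj : ∀ c, Ideal.Quotient.mk J (s c) = 0 → c = 0 := by
    intro c hc
    by_contra h
    refine hxJ ?_
    have hu : IsUnit (s c) := (IsUnit.mk0 c h).map s
    exact (J.eq_top_of_isUnit_mem (Ideal.Quotient.eq_zero_iff_mem.1 hc) hu) ▸ Submodule.mem_top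
  have hεN : ε ^ (N + 2) = 0 := by
    change Ideal.Quotient.mk _ X ^ (N + 2) = 0
    rw [← map_pow]
    exact Ideal.Quotient.eq_zero_iff_mem.2 (Ideal.mem_span_singleton_self _)
  have hψε : ∀ r : R, ∀ c r', r = Ideal.Quotient.mk _ (C c) + r' * ε → ψ r = 0 → c = 0 := by
    intro r c r' hr h0
    rw [hr, map_add, map_mul, hψC, hψX] at h0
    by_contra h
    have hu : IsUnit (s c) := (IsUnit.mk0 c h).map s
    obtain ⟨b, hb⟩ := Ideal.Quotient.mk_surjective (ψ r')
    rw [← hb, ← map_mul, ← map_add, Ideal.Quotient.eq_zero_iff_mem] at h0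
    have hJle : J ≤ maximalIdeal A := le_maximalIdeal fun e => hxJ (e ▸ Submodule.mem_top)
    have : s c ∈ maximalIdeal A := by
      have := (maximalIdeal A).sub_mem (hJle h0) ((maximalIdeal A).mul_mem_left b hx)
      simpa using this
    exact (maximalIdeal A).ne_top_iff_one.1 (maximalIdeal.isMaximal A).ne_top
      ((maximalIdeal A).eq_top_of_isUnit_mem this hu ▸ Submodule.mem_top)
  have hker' : IsNilpotent (RingHom.ker (ψ : R →+* A ⧸ J)) := by
    refine ⟨N + 2, le_bot_iff.1 ?_⟩
    have hle : RingHom.ker (ψ : R →+* A ⧸ J) ≤ Ideal.span {ε} := by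
      intro r hr
      obtain ⟨c, r', hcr⟩ := hR r
      have := hψε r c r' hcr hr
      rw [hcr, this, map_zero, map_zero, zero_add]
      exact Ideal.mem_span_singleton'.2 ⟨r', rfl⟩
    refine (Ideal.pow_right_mono hle _).trans ?_
    rw [Ideal.span_singleton_pow, hεN, Ideal.span_singleton_eq_bot.2 rfl]
  let g : A →ₐ[k] R := Algebra.FormallySmooth.liftOfSurjective (Ideal.Quotient.mkₐ k J) ψ hψsurj hker'
  have hg : ∀ a, ψ (g a) = Ideal.Quotient.mk J a := fun a =>
    Algebra.FormallySmooth.liftOfSurjective_apply _ _ hψsurj hker' a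
  -- the image of `x` is `ε` times a unit, so its powers do not vanish
  obtain ⟨c, r', hc⟩ := hR (g x)
  have hc0 : c = 0 := by
    have h := hg x
    rw [hc, map_add, map_mul, hψC, hψX] at h
    obtain ⟨b, hb⟩ := Ideal.Quotient.mk_surjective (ψ r')
    rw [← hb, ← map_mul, ← map_add, Ideal.Quotient.eq] at h
    have hJle : J ≤ maximalIdeal A := le_maximalIdeal fun e => hxJ (e ▸ Submodule.mem_top)
    have hmem : s c ∈ maximalIdeal A := by
      have := (maximalIdeal A).add_mem ((maximalIdeal A).sub_mem (hJle h)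
        ((maximalIdeal A).mul_mem_left b hx)) hx
      simpa [sub_add] using this
    have := hs c
    rw [(IsLocalRing.residue_eq_zero_iff _).2 hmem] at this
    exact this.symm
  rw [hc0, map_zero, map_zero, zero_add] at hc
  obtain ⟨d, r'', hd⟩ := hR r'
  have hd0 : d ≠ 0 := by
    intro h
    rw [h, map_zero, map_zero, zero_add] at hd
    refine hxJ (Ideal.Quotient.eq_zero_iff_mem.1 ?_)
    rw [← hg x, hc, hd, map_mul, map_mul, hψX, mul_assoc, ← map_mul (Ideal.Quotient.mk J),
      Ideal.Quotient.eq_zero_iff_mem.2 hxx, mul_zero]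
  have hr'u : IsUnit r' := by
    rw [hd]
    refine IsNilpotent.isUnit_add_left_of_commute ⟨N + 2, ?_⟩
      ((IsUnit.mk0 d hd0).map ((Ideal.Quotient.mk _).comp C)) (Commute.all _ _)
    rw [mul_pow, hεN, mul_zero]
  have hxN : x ^ N = 0 := Ideal.mem_bot.1 (hN.le (Ideal.pow_mem_pow hx N))
  have hεN0 : ε ^ N = 0 := by
    have := congrArg g hxN
    rwa [map_pow, hc, map_zero, mul_pow, IsUnit.mul_right_eq_zero (hr'u.pow N)] at this
  have : ((X : (ResidueField A)[X]) ^ (N + 2)) ∣ X ^ N := by
    rw [← Ideal.mem_span_singleton]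
    exact Ideal.Quotient.eq_zero_iff_mem.1 ((map_pow _ _ _).trans hεN0)
  have h := natDegree_le_of_dvd this (pow_ne_zero _ X_ne_zero)
  rw [natDegree_X_pow, natDegree_X_pow] at h
  omega

end WeilLib
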