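import Groth.Prelude.Def_WeilCoh
import Groth.Agent.WeilLib.SmoothGeneric
import Mathlib.AlgebraicGeometry.ProjectiveSpectrum.Proper
import Mathlib.AlgebraicGeometry.Morphisms.Separated
import Mathlib.AlgebraicGeometry.Morphisms.ClosedImmersion
import Mathlib.AlgebraicGeometry.Noetherian
import Mathlib.RingTheory.KrullDimension.Polynomial
import Mathlib.RingTheory.KrullDimension.Field
import Mathlib.RingTheory.Spectrum.Prime.Topology
import Mathlib.FieldTheory.Perfect

/-!
# Geometry of the objects of `WeilCoh.Var`
-/

universe u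

noncomputable section

open AlgebraicGeometry CategoryTheory WeilCoh Topology TopologicalSpace

namespace WeilLib

section Dim

lemma topologicalKrullDim_le_of_forall_mem {X : Type*} [TopologicalSpace X] {n : WithBot ℕ∞}
    (h : ∀ x : X, ∃ U : Set X, IsOpen U ∧ x ∈ U ∧ topologicalKrullDim U ≤ n) :
    topologicalKrullDim X ≤ n := by
  rw [topologicalKrullDim, Order.krullDim_eq_iSup_coheight]
  refine iSup_le fun Z => ?_
  obtain ⟨z, hz⟩ := Z.2.nonempty
  obtain ⟨U, hU, hzU, hUn⟩ := h z
  let V : {V : IrreducibleCloseds X | ((Subtype.val : U → X) ⁻¹' V).Nonempty} :=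
    ⟨Z, ⟨⟨z, hzU⟩, hz⟩⟩
  have e : IrreducibleCloseds.map (Subtype.val : U → X) continuous_subtype_val
      ((IrreducibleCloseds.orderIsoOfIsOpenEmbedding _ hU.isOpenEmbedding_subtypeVal).symm V) = Z :=
    congrArg Subtype.val
      ((IrreducibleCloseds.orderIsoOfIsOpenEmbedding _ hU.isOpenEmbedding_subtypeVal).apply_symm_apply V)
  rw [← e, hU.isOpenEmbedding_subtypeVal.coheight_map]
  exact le_trans (Order.coheight_le_krullDim _) hUn

lemma natDim_le_of_le {T : Type u} [TopologicalSpace T] {n : ℕ}
    (h : topologicalKrullDim T ≤ n) : natDim T ≤ n := by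
  unfold natDim
  generalize topologicalKrullDim T = d at h ⊢
  induction d with
  | bot => simp
  | coe d =>
    have h' : d ≤ (n : ℕ∞) := WithBot.coe_le_coe.1 h
    simpa using ENat.toNat_le_of_le_natCast h'

lemma natDim_mono {S T : Type u} [TopologicalSpace S] [TopologicalSpace T]
    (h : topologicalKrullDim S ≤ topologicalKrullDim T) {n : ℕ}
    (hT : topologicalKrullDim T ≤ n) : natDim S ≤ natDim T := by
  unfold natDim
  generalize topologicalKrullDim S = a at h
  generalize topologicalKrullDim T = b at h hT
  induction a with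
  | bot => simp
  | coe a =>
    induction b with
    | bot => simp at h
    | coe b =>
      simp only [WithBot.unbotD_coe]
      exact ENat.toNat_le_toNat (WithBot.coe_le_coe.1 h)
        (ne_top_of_le_ne_top (ENat.natCast_ne_top n) (WithBot.coe_le_coe.1 hT))

lemma natDim_homeomorph {S T : Type u} [TopologicalSpace S] [TopologicalSpace T] (e : S ≃ₜ T) :
    natDim S = natDim T := by
  unfold natDim
  rw [IsHomeomorph.topologicalKrullDim_eq e e.isHomeomorph]

lemma natDim_eq_zero_of_subsingleton (T : Type u) [TopologicalSpace T] [Subsingleton T] :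
    natDim T = 0 :=
  Nat.le_zero.1 (natDim_le_of_le (topologicalKrullDim_zero_of_discreteTopology T))

lemma exists_bound_of_finiteType (k : Type u) [Field k] (A : Type u) [CommRing A] [Algebra k A]
    [Algebra.FiniteType k A] : ∃ n : ℕ, ringKrullDim A ≤ (n : WithBot ℕ∞) := by
  obtain ⟨n, f, hf⟩ := Algebra.FiniteType.iff_quotient_mvPolynomial''.1
    (inferInstance : Algebra.FiniteType k A)
  refine ⟨n, (ringKrullDim_le_of_surjective f.toRingHom hf).trans ?_⟩
  rw [MvPolynomial.ringKrullDim_of_isNoetherianRing, ringKrullDim_eq_zero_of_field, zero_add]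
  simp

end Dim

section Var

variable {k : Type u} [Field k]

lemma smooth_hom (X : Var k) : Smooth X.obj.hom := X.property.1

lemma irreducibleSpace (X : Var k) : IrreducibleSpace ↥X.obj.left := X.property.2.2

instance instFiniteTypePolyGradingZero (n : ℕ) (R : Type u) [CommRing R] :
    Algebra.FiniteType (CohB1.polyGrading n R 0) (MvPolynomial (Fin (n + 1)) R) :=
  haveI : IsScalarTower R (CohB1.polyGrading n R 0) (MvPolynomial (Fin (n + 1)) R) :=
    IsScalarTower.of_algebraMap_eq (R := R) (S := CohB1.polyGrading n R 0) fun _ => rfl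
  Algebra.FiniteType.of_restrictScalars_finiteType R _ _

set_option backward.isDefEq.respectTransparency false in
lemma isSeparated_hom (X : Var k) : IsSeparated X.obj.hom := by
  obtain ⟨n, i, hi, h⟩ := X.property.2.1
  have := hi
  have : IsSeparated (CohB1.ProjSpace.toSpec n (ULift.{u} ℤ)) := by
    have := Proj.isSeparated (CohB1.polyGrading n (ULift.{u} ℤ))
    unfold CohB1.ProjSpace.toSpec CohB1.ProjSpace
    infer_instance
  have : IsSeparated (CohB1.ProjSpaceOver.toBase n (Spec (CommRingCat.of k))) := by
    unfold CohB1.ProjSpaceOver.toBase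
    infer_instance
  rw [← h]
  infer_instance

set_option backward.isDefEq.respectTransparency false in
lemma quasiCompact_hom (X : Var k) : QuasiCompact X.obj.hom := by
  obtain ⟨n, i, hi, h⟩ := X.property.2.1
  have := hi
  have : QuasiCompact (CohB1.ProjSpace.toSpec n (ULift.{u} ℤ)) := by
    unfold CohB1.ProjSpace.toSpec CohB1.ProjSpace
    infer_instance
  have : QuasiCompact (CohB1.ProjSpaceOver.toBase n (Spec (CommRingCat.of k))) := by
    unfold CohB1.ProjSpaceOver.toBase
    infer_instance
  rw [← h]
  infer_instance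

lemma compactSpace (X : Var k) : CompactSpace ↥X.obj.left :=
  have := quasiCompact_hom X
  QuasiCompact.compactSpace_of_compactSpace X.obj.hom

lemma locallyOfFiniteType_hom (X : Var k) : LocallyOfFiniteType X.obj.hom := by
  have := smooth_hom X
  infer_instance

/-- The structure map of an affine open of a scheme over a field, as a ring map. -/
def structMap (X : Over (Spec (CommRingCat.of k))) (U : X.left.Opens) :
    CommRingCat.of k ⟶ Γ(X.left, U) :=
  (Scheme.ΓSpecIso _).inv ≫ X.hom.appLE ⊤ U (by simp)

lemma structMap_finiteType (X : Over (Spec (CommRingCat.of k))) [LocallyOfFiniteType X.hom]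
    {U : X.left.Opens} (hU : IsAffineOpen U) : (structMap X U).hom.FiniteType := by
  simp only [structMap, CommRingCat.hom_comp]
  exact RingHom.FiniteType.comp
    (X.hom.finiteType_appLE (isAffineOpen_top _) hU _)
    (RingHom.FiniteType.of_surjective _
      (Scheme.ΓSpecIso (CommRingCat.of k)).commRingCatIsoToRingEquiv.symm.surjective)

lemma structMap_smooth (X : Over (Spec (CommRingCat.of k))) [Smooth X.hom]
    {U : X.left.Opens} (hU : IsAffineOpen U) : (structMap X U).hom.Smooth := by
  simp only [structMap, CommRingCat.hom_comp]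
  exact RingHom.Smooth.stableUnderComposition _ _
    (RingHom.HoldsForLocalizationAway.of_bijective (P := RingHom.Smooth) _ RingHom.Smooth.holdsForLocalizationAway
      (Scheme.ΓSpecIso (CommRingCat.of k)).commRingCatIsoToRingEquiv.symm.bijective)
    (X.hom.smooth_appLE (isAffineOpen_top _) hU _)

lemma exists_dim_bound (X : Var k) :
    ∃ n : ℕ, topologicalKrullDim ↥X.obj.left ≤ (n : WithBot ℕ∞) := by
  have := locallyOfFiniteType_hom X
  have := compactSpace X
  have hb : ∀ U : X.obj.left.affineOpens,
      ∃ n : ℕ, topologicalKrullDim ↥(U : X.obj.left.Opens) ≤ (n : WithBot ℕ∞) := by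
    intro U
    letI := (structMap X.obj U).hom.toAlgebra
    have : Algebra.FiniteType k Γ(X.obj.left, U) := structMap_finiteType X.obj U.2
    obtain ⟨n, hn⟩ := exists_bound_of_finiteType k Γ(X.obj.left, U)
    refine ⟨n, le_trans (le_of_eq ?_) hn⟩
    rw [← PrimeSpectrum.topologicalKrullDim_eq_ringKrullDim]
    exact IsHomeomorph.topologicalKrullDim_eq _ U.2.isoSpec.hom.homeomorph.isHomeomorph
  choose n hn using hb
  obtain ⟨s, hs⟩ := isCompact_univ.elim_finite_subcover
    (fun U : X.obj.left.affineOpens => ((U : X.obj.left.Opens) : Set X.obj.left))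
    (fun U => U.1.isOpen) (fun x _ => by
      obtain ⟨U, hU, hx, -⟩ := exists_isAffineOpen_mem_and_subset (x := x) (U := ⊤) trivial
      exact Set.mem_iUnion.2 ⟨⟨U, hU⟩, hx⟩)
  refine ⟨s.sup n, topologicalKrullDim_le_of_forall_mem fun x => ?_⟩
  obtain ⟨U, hU, hx⟩ := Set.mem_iUnion₂.1 (hs (Set.mem_univ x))
  exact ⟨_, U.1.isOpen, hx,
    (hn U).trans (by exact_mod_cast Finset.le_sup hU)⟩

lemma pdim_le_dim (X : Var k) (ξ : X.obj.left) : pdim X.obj.left ξ ≤ dim X.obj.left := by
  obtain ⟨n, hn⟩ := exists_dim_bound X
  exact natDim_mono (topologicalKrullDim_subspace_le _ _) hn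

lemma codim_cast (X : Var k) (ξ : X.obj.left) :
    (codim X.obj.left ξ : ℤ) = (dim X.obj.left : ℤ) - pdim X.obj.left ξ := by
  rw [codim, Nat.cast_sub (pdim_le_dim X ξ)]

lemma pdim_genericPoint {X : Scheme.{u}} [IrreducibleSpace ↥X] :
    pdim X (genericPoint ↥X) = dim X := by
  rw [pdim, dim, genericPoint_closure]
  exact natDim_homeomorph (Homeomorph.Set.univ _)

lemma codim_genericPoint {X : Scheme.{u}} [IrreducibleSpace ↥X] :
    codim X (genericPoint ↥X) = 0 := by
  rw [codim, pdim_genericPoint, Nat.sub_self]

lemma pdim_of_isClosed {X : Scheme.{u}} {x : X} (hx : IsClosed ({x} : Set X)) :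
    pdim X x = 0 := by
  rw [pdim, hx.closure_eq]
  exact natDim_eq_zero_of_subsingleton _

lemma pdim_map_of_isClosedImmersion {X Y : Scheme.{u}} (f : X ⟶ Y) [IsClosedImmersion f] (x : X) :
    pdim Y (f x) = pdim X x := by
  rw [pdim, pdim]
  have h : closure ({f x} : Set Y) = f '' closure ({x} : Set X) := by
    rw [← f.isClosedEmbedding.closure_image_eq, Set.image_singleton]
  rw [h]
  exact (natDim_homeomorph (f.isClosedEmbedding.isEmbedding.homeomorphImage _)).symm

lemma isClosedImmersion_section {X P : Var k} {p : P ⟶ X} {j : X ⟶ P} (h : j ≫ p = 𝟙 X) :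
    IsClosedImmersion (sm j) := by
  have h' : sm j ≫ sm p = 𝟙 X.obj.left := congrArg (fun f : X ⟶ X => sm f) h
  have : IsSeparated P.obj.hom := isSeparated_hom P
  have : IsSeparated (sm p ≫ X.obj.hom) := by
    have e : sm p ≫ X.obj.hom = P.obj.hom := Over.w p.hom
    rwa [e]
  have : IsSeparated (sm p) := IsSeparated.of_comp (sm p) X.obj.hom
  have : IsClosedImmersion (sm j ≫ sm p) := by rw [h']; infer_instance
  exact IsClosedImmersion.of_comp (sm j) (sm p)

lemma residueDegree_of_isClosedImmersion {X Y : Scheme.{u}} (f : X ⟶ Y) [IsClosedImmersion f]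
    (x : X) : f.residueDegree x = 1 := by
  letI := (f.residueFieldMap x).hom.toAlgebra
  have hs : Function.Surjective (algebraMap (Y.residueField (f x)) (X.residueField x)) := by
    intro a
    obtain ⟨a, rfl⟩ := X.residue_surjective x a
    obtain ⟨b, rfl⟩ := f.stalkMap_surjective x a
    exact ⟨Y.residue (f x) b,
      ConcreteCategory.congr_hom (Scheme.residue_residueFieldMap f x) b⟩
  let e : Y.residueField (f x) ≃ₐ[Y.residueField (f x)] X.residueField x :=
    AlgEquiv.ofBijective (Algebra.ofId (Y.residueField (f x)) (X.residueField x))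
      ⟨(f.residueFieldMap x).hom.injective, hs⟩
  exact e.toLinearEquiv.finrank_eq.symm.trans (Module.finrank_self _)

/-- The stalk at the generic point of a variety over a perfect field is a field. -/
lemma isField_stalk_genericPoint [PerfectField k] (X : Var k) [IrreducibleSpace ↥X.obj.left] :
    IsField (X.obj.left.presheaf.stalk (genericPoint ↥X.obj.left)) := by
  have := smooth_hom X
  obtain ⟨U, hU, hx, -⟩ := exists_isAffineOpen_mem_and_subset
    (x := genericPoint ↥X.obj.left) (U := ⊤) trivial
  letI := (structMap X.obj U).hom.toAlgebra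
  have : Algebra.Smooth k Γ(X.obj.left, U) := structMap_smooth X.obj hU
  have : Algebra.FiniteType k Γ(X.obj.left, U) := inferInstance
  have : IsNoetherianRing Γ(X.obj.left, U) := Algebra.FiniteType.isNoetherianRing k _
  letI := X.obj.left.presheaf.algebra_section_stalk ⟨genericPoint ↥X.obj.left, hx⟩
  let A := X.obj.left.presheaf.stalk (genericPoint ↥X.obj.left)
  let p := hU.primeIdealOf ⟨genericPoint ↥X.obj.left, hx⟩
  haveI : IsLocalization.AtPrime A p.asIdeal :=
    hU.isLocalization_stalk ⟨genericPoint ↥X.obj.left, hx⟩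
  letI : Algebra k A := ((algebraMap Γ(X.obj.left, U) A).comp (algebraMap k _)).toAlgebra
  haveI : IsScalarTower k Γ(X.obj.left, U) A := IsScalarTower.of_algebraMap_eq' rfl
  haveI : IsNoetherianRing A := IsLocalization.isNoetherianRing p.asIdeal.primeCompl A inferInstance
  haveI : Algebra.FormallySmooth k A :=
    have : Algebra.FormallySmooth Γ(X.obj.left, U) A :=
      Algebra.FormallySmooth.of_isLocalization p.asIdeal.primeCompl
    Algebra.FormallySmooth.comp k Γ(X.obj.left, U) A
  haveI : Algebra.EssFiniteType k A :=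
    have : Algebra.EssFiniteType Γ(X.obj.left, U) A :=
      Algebra.EssFiniteType.of_isLocalization A p.asIdeal.primeCompl
    Algebra.EssFiniteType.comp k Γ(X.obj.left, U) A
  rw [IsLocalRing.isField_iff_maximalIdeal_eq]
  refine maximalIdeal_eq_bot_of_formallySmooth k A ?_
  -- every prime of the stalk at the generic point is maximal
  have hsub : Subsingleton (PrimeSpectrum A) := by
    refine ⟨fun a b => ?_⟩
    suffices ∀ c : Spec (.of A), c = IsLocalRing.closedPoint A from (this a).trans (this b).symm
    intro c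
    have hc : (X.obj.left.fromSpecStalk (genericPoint ↥X.obj.left)) c ∈
        {y | y ⤳ genericPoint ↥X.obj.left} := by
      rw [← Scheme.range_fromSpecStalk]; exact ⟨c, rfl⟩
    have he : (X.obj.left.fromSpecStalk (genericPoint ↥X.obj.left)) c = genericPoint ↥X.obj.left :=
      (hc.antisymm (genericPoint_specializes _)).eq
    apply (X.obj.left.fromSpecStalk (genericPoint ↥X.obj.left)).isEmbedding.injective
    rw [he]
    exact (Scheme.fromSpecStalk_closedPoint).symm
  have hnil : nilradical A = IsLocalRing.maximalIdeal A := by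
    rw [nilradical_eq_sInf]
    refine le_antisymm (sInf_le (IsLocalRing.maximalIdeal.isMaximal A).isPrime) (le_sInf ?_)
    intro q hq
    have := congrArg PrimeSpectrum.asIdeal
      (Subsingleton.elim (⟨q, hq⟩ : PrimeSpectrum A) (IsLocalRing.closedPoint A))
    exact le_of_eq this.symm
  rw [← hnil]
  exact IsNoetherianRing.isNilpotent_nilradical A

end Var

end WeilLib
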