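import Groth.Agent.WeilLib.Corr
import Groth.Agent.WeilLib.Dim
import Groth.Prelude.Def_W4c1zetahwZeta
import Mathlib.AlgebraicGeometry.AlgClosed.Basic
import Mathlib.AlgebraicGeometry.Noetherian
import Mathlib.FieldTheory.Finite.GaloisField
import Mathlib.FieldTheory.PrimitiveElement
import Mathlib.FieldTheory.Perfect
import Mathlib.RingTheory.Nakayama
import Mathlib.RingTheory.Jacobson.Ring

/-!
# The Frobenius: fixed points and the trace formula
-/

universe u v

noncomputable section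

open AlgebraicGeometry CategoryTheory WeilCoh

namespace WeilLib

section Stk

variable {X Y Z : Scheme.{u}}

/-- The map on stalks of a morphism, with the image point given up to equality. -/
def stk (f : X ⟶ Y) (x : X) (y : Y) (h : f x = y) : Y.presheaf.stalk y ⟶ X.presheaf.stalk x :=
  Y.presheaf.stalkSpecializes (specializes_of_eq h) ≫ f.stalkMap x

lemma stk_spec (f : X ⟶ Y) (x : X) (y : Y) (h : f x = y) :
    Spec.map (stk f x y h) ≫ Y.fromSpecStalk y = X.fromSpecStalk x ≫ f := by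
  rw [stk, Spec.map_comp, Category.assoc, Scheme.SpecMap_stalkSpecializes_fromSpecStalk,
    Scheme.SpecMap_stalkMap_fromSpecStalk]

lemma stalk_hom_ext {R : CommRingCat.{u}} {y : Y} {φ ψ : Y.presheaf.stalk y ⟶ R}
    (h : Spec.map φ ≫ Y.fromSpecStalk y = Spec.map ψ ≫ Y.fromSpecStalk y) : φ = ψ :=
  Spec.map_injective ((cancel_mono (Y.fromSpecStalk y)).1 h)

lemma stk_eq {f : X ⟶ Y} {x : X} {y : Y} (h : f x = y) {φ : Y.presheaf.stalk y ⟶ X.presheaf.stalk x}
    (hφ : Spec.map φ ≫ Y.fromSpecStalk y = X.fromSpecStalk x ≫ f) : φ = stk f x y h :=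
  stalk_hom_ext (hφ.trans (stk_spec f x y h).symm)

lemma stk_comp (f : X ⟶ Y) (g : Y ⟶ Z) (x : X) (y : Y) (z : Z) (hf : f x = y) (hg : g y = z)
    (hfg : (f ≫ g) x = z) : stk g y z hg ≫ stk f x y hf = stk (f ≫ g) x z hfg := by
  refine stk_eq hfg ?_
  rw [Spec.map_comp, Category.assoc, stk_spec, ← Category.assoc, stk_spec, Category.assoc]

lemma stk_id (x : X) (h : (𝟙 X : X ⟶ X) x = x) : stk (𝟙 X) x x h = 𝟙 _ :=
  (stk_eq h (by simp)).symm

lemma stk_self (f : X ⟶ Y) (x : X) : f.stalkMap x = stk f x (f x) rfl :=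
  stk_eq rfl (Scheme.SpecMap_stalkMap_fromSpecStalk f)

end Stk

section Frobenius

variable {k₀ : Type u} [Field k₀] [Finite k₀] {X : Scheme.{u}}

/-- Iterates of an endomorphism of a scheme. -/
def endIter (FX : X ⟶ X) : ℕ → (X ⟶ X)
  | 0 => 𝟙 X
  | m + 1 => endIter FX m ≫ FX

lemma endIter_apply {FX : X ⟶ X} (hFb : FX.base = 𝟙 _) (m : ℕ) (x : X) : endIter FX m x = x := by
  induction m with
  | zero => rfl
  | succ m ih =>
    change FX (endIter FX m x) = x
    rw [ih]
    change FX.base x = x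
    rw [hFb]; rfl

lemma stk_pow {Q : ℕ} {FX : X ⟶ X} (hle : ∀ U : X.Opens, U ≤ FX ⁻¹ᵁ U)
    (hFapp : ∀ (U : X.Opens) (s : Γ(X, U)), (FX.appLE U U (hle U)).hom s = s ^ Q) (x : X)
    (h : FX x = x) (a : X.presheaf.stalk x) : stk FX x x h a = a ^ Q := by
  obtain ⟨U, hxU, s, rfl⟩ := X.presheaf.exists_germ_eq a
  have hx' : FX x ∈ U := h.symm ▸ hxU
  have e1 : X.presheaf.stalkSpecializes (specializes_of_eq h) (X.presheaf.germ U x hxU s) =
      X.presheaf.germ U (FX x) hx' s :=
    ConcreteCategory.congr_hom (X.presheaf.germ_stalkSpecializes hxU (specializes_of_eq h)) s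
  rw [stk, CommRingCat.comp_apply, e1, Scheme.Hom.germ_stalkMap_apply]
  have e2 : X.presheaf.germ (FX ⁻¹ᵁ U) x hx' (FX.app U s) =
      X.presheaf.germ U x hxU (FX.appLE U U (hle U) s) :=
    (X.presheaf.germ_res_apply (homOfLE (hle U)) x hxU _).symm
  rw [e2, show FX.appLE U U (hle U) s = s ^ Q from hFapp U s, map_pow]

lemma stk_endIter {q : ℕ} {FX : X ⟶ X} (hFb : FX.base = 𝟙 _) (hle : ∀ U : X.Opens, U ≤ FX ⁻¹ᵁ U)
    (hFapp : ∀ (U : X.Opens) (s : Γ(X, U)), (FX.appLE U U (hle U)).hom s = s ^ q) (m : ℕ) (x : X)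
    (a : X.presheaf.stalk x) :
    stk (endIter FX m) x x (endIter_apply hFb m x) a = a ^ q ^ m := by
  induction m generalizing a with
  | zero =>
    have : stk (endIter FX 0) x x (endIter_apply hFb 0 x) = 𝟙 _ := stk_id x rfl
    rw [this]; simp
  | succ m ih =>
    have hF : FX x = x := by change FX.base x = x; rw [hFb]; rfl
    have := stk_comp (endIter FX m) FX x x x (endIter_apply hFb m x) hF
      (endIter_apply hFb (m + 1) x)
    rw [show stk (endIter FX (m + 1)) x x (endIter_apply hFb (m + 1) x) =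
      stk (endIter FX m ≫ FX) x x (endIter_apply hFb (m + 1) x) from rfl, ← this,
      CommRingCat.comp_apply, stk_pow hle hFapp, map_pow, ih, ← pow_mul, pow_succ]

/-- An endomorphism raising germs to the `Q`-th power commutes with power maps. -/
lemma comp_powEnd {Q : ℕ} {Φ : X ⟶ X} (h : ∀ x, Φ x = x)
    (hΦ : ∀ x a, stk Φ x x (h x) a = a ^ Q) {R : CommRingCat.{u}} {x : X}
    (ψ : X.presheaf.stalk x ⟶ R) (φ : R ⟶ R) (hφ : ∀ r, φ r = r ^ Q) :
    (Spec.map ψ ≫ X.fromSpecStalk x) ≫ Φ = Spec.map (ψ ≫ φ) ≫ X.fromSpecStalk x := by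
  have e : ψ ≫ φ = stk Φ x x (h x) ≫ ψ := by
    ext a
    change φ (ψ a) = ψ (stk Φ x x (h x) a)
    rw [hΦ, map_pow, hφ]
  rw [e, Category.assoc, ← stk_spec Φ x x (h x), Spec.map_comp, Category.assoc]

lemma add_pow_of_sq_zero {R : Type*} [CommRing R] (b ε : R) (h : ε * ε = 0) (n : ℕ) :
    (b + ε) ^ (n + 1) = b ^ (n + 1) + (n + 1 : R) * b ^ n * ε := by
  induction n with
  | zero => simp
  | succ n ih =>
    rw [pow_succ, ih]
    push_cast
    linear_combination ((n + 1 : R) * b ^ n) * h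

variable (k : Type u) [Field k] [Algebra k₀ k]

/-- The `q ^ m`-th power map of an extension of the finite field. -/
def powK (m : ℕ) : k →+* k :=
  letI := Fintype.ofFinite k₀
  ((FiniteField.frobeniusAlgHom k₀ k) ^ m).toRingHom

lemma powK_apply (m : ℕ) (a : k) : powK (k₀ := k₀) k m a = a ^ Nat.card k₀ ^ m := by
  letI := Fintype.ofFinite k₀
  change ((FiniteField.frobeniusAlgHom k₀ k) ^ m) a = _
  rw [AlgHom.coe_pow, FiniteField.coe_frobeniusAlgHom, pow_iterate, Nat.card_eq_fintype_card]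

omit [Algebra k₀ k] in
lemma natCard_pow_cast_eq_zero [Algebra k₀ k] {m : ℕ} (hm : m ≠ 0) :
    ((Nat.card k₀ ^ m : ℕ) : k) = 0 := by
  letI := Fintype.ofFinite k₀
  have : ((Fintype.card k₀ : ℕ) : k) = 0 := by
    rw [← map_natCast (algebraMap k₀ k), Nat.cast_card_eq_zero, map_zero]
  rw [Nat.card_eq_fintype_card, Nat.cast_pow, this, zero_pow hm]

end Frobenius

section Count

variable {k₀ : Type u} [Field k₀] [Finite k₀] {X : Scheme.{u}}
variable (f : X ⟶ Spec (CommRingCat.of k₀))

/-- The residue field of a point, as an algebra over the base field. -/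
def resMap (x : X) : CommRingCat.of k₀ ⟶ X.residueField x :=
  kappaMap (Over.mk f) x

omit [Finite k₀] in
lemma SpecMap_resMap (x : X) : Spec.map (resMap f x) = X.fromSpecResidueField x ≫ f := by
  change Spec.map ((Scheme.ΓSpecIso _).inv ≫ f.appTop ≫ X.presheaf.germ ⊤ x trivial ≫ X.residue x) =
    _
  simp only [Spec.map_comp, Category.assoc, Scheme.fromSpecResidueField]
  rw [← Scheme.fromSpecStalk_toSpecΓ, Category.assoc]
  congr 2
  rw [← Category.assoc, ← Scheme.toSpecΓ_naturality, Category.assoc,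
    toSpecΓ_SpecMap_ΓSpecIso_inv, Category.comp_id]

omit [Finite k₀] in
lemma residueDegree_eq_finrank (x : X) :
    letI := (resMap f x).hom.toAlgebra
    EGA4loc.residueDegree f x = Module.finrank k₀ (X.residueField x) := by
  letI := (resMap f x).hom.toAlgebra
  let S := Spec (CommRingCat.of k₀)
  let e : CommRingCat.of k₀ ⟶ S.residueField (f x) :=
    (Scheme.ΓSpecIso _).inv ≫ S.Γevaluation (f x)
  have he : resMap f x = e ≫ f.residueFieldMap x := by
    change (Scheme.ΓSpecIso _).inv ≫ f.appTop ≫ X.Γevaluation x = _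
    rw [← Scheme.Γevaluation_naturality, Category.assoc]
  have hbij : Function.Bijective e := by
    refine ⟨RingHom.injective e.hom, fun z => ?_⟩
    obtain ⟨a, b, hb, hab⟩ := surjective_div_evaluation (isAffineOpen_top S) (f x) trivial z
    let i := (Scheme.ΓSpecIso (CommRingCat.of k₀)).commRingCatIsoToRingEquiv
    have hev : ∀ c, e (i c) = S.evaluation ⊤ (f x) trivial c := fun c =>
      congrArg (S.Γevaluation (f x)) (i.symm_apply_apply c)
    refine ⟨i a / i b, ?_⟩
    change e.hom (i a / i b) = z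
    rw [map_div₀]
    change e (i a) / e (i b) = z
    rw [hev, hev, ← hab]
    exact mul_div_cancel_right₀ z hb
  letI := (f.residueFieldMap x).hom.toAlgebra
  refine (Algebra.finrank_eq_of_equiv_equiv (RingEquiv.ofBijective e.hom hbij)
    (RingEquiv.refl _) ?_).symm
  ext a
  exact (ConcreteCategory.congr_hom he a).symm

variable (k : Type u) [Field k] [Algebra k₀ k]

/-- The embeddings of a residue field into `k` with values fixed by the `Q`-th power. -/
def FixedEmb (Q : ℕ) (x : X) : Type u :=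
  {ι : X.residueField x ⟶ CommRingCat.of k //
    resMap f x ≫ ι = CommRingCat.ofHom (algebraMap k₀ k) ∧ ∀ a, (ι a) ^ Q = ι a}

variable {f k}

lemma pow_eq_self_of_fixedEmb {Q : ℕ} {x : X} (ι : FixedEmb f k Q x) (a : X.residueField x) :
    a ^ Q = a :=
  ι.1.hom.injective (by rw [map_pow]; exact ι.2.2 a)

variable [LocallyOfFiniteType f]

lemma finite_of_forall_pow_eq {L : Type*} [Field L] {Q : ℕ} (hQ : 1 < Q)
    (h : ∀ a : L, a ^ Q = a) : Finite L := by
  classical
  have hne : (Polynomial.X ^ Q - Polynomial.X : Polynomial L) ≠ 0 :=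
    FiniteField.X_pow_card_sub_X_ne_zero L hQ
  have : (Set.univ : Set L) ⊆ ↑((Polynomial.X ^ Q - Polynomial.X : Polynomial L).roots.toFinset) :=
    fun a _ => by simp [Polynomial.mem_roots hne, h a]
  exact Set.finite_univ_iff.1 ((Finset.finite_toSet _).subset this)

lemma one_lt_natCard_pow {m : ℕ} (hm : m ≠ 0) : 1 < Nat.card k₀ ^ m :=
  Nat.one_lt_pow hm Finite.one_lt_card

lemma closed_and_dvd_of_fixedEmb {m : ℕ} (hm : m ≠ 0) {x : X}
    (ι : FixedEmb f k (Nat.card k₀ ^ m) x) :
    IsClosed ({x} : Set X) ∧ EGA4loc.residueDegree f x ∣ m := by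
  letI := (resMap f x).hom.toAlgebra
  letI := Fintype.ofFinite k₀
  have : JacobsonSpace ↥X := LocallyOfFiniteType.jacobsonSpace f
  have hfin : Finite (X.residueField x) :=
    finite_of_forall_pow_eq (one_lt_natCard_pow hm) (pow_eq_self_of_fixedEmb ι)
  have : Module.Finite k₀ (X.residueField x) := Module.Finite.of_finite
  refine ⟨?_, ?_⟩
  · rw [isClosed_singleton_iff_locallyOfFiniteType]
    have hft : (resMap f x).hom.FiniteType :=
      RingHom.FiniteType.of_finite (show (resMap f x).hom.Finite from this)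
    have : LocallyOfFiniteType (X.fromSpecResidueField x ≫ f) := by
      rw [← SpecMap_resMap]
      exact (HasRingHomProperty.Spec_iff (P := @LocallyOfFiniteType)).2 hft
    exact locallyOfFiniteType_of_comp _ f
  · rw [residueDegree_eq_finrank, ← FiniteField.orderOf_frobeniusAlgHom k₀ (X.residueField x)]
    refine orderOf_dvd_of_pow_eq_one (AlgHom.ext fun a => ?_)
    rw [AlgHom.coe_pow, FiniteField.coe_frobeniusAlgHom, pow_iterate, ← Nat.card_eq_fintype_card]
    exact pow_eq_self_of_fixedEmb ι a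

lemma natCard_fixedEmb [IsAlgClosed k] {m : ℕ} {x : X} (hx : IsClosed ({x} : Set X))
    (hd : EGA4loc.residueDegree f x ∣ m) :
    Nat.card (FixedEmb f k (Nat.card k₀ ^ m) x) = EGA4loc.residueDegree f x ∧
      EGA4loc.residueDegree f x ≠ 0 := by
  letI := (resMap f x).hom.toAlgebra
  letI := Fintype.ofFinite k₀
  have : JacobsonSpace ↥X := LocallyOfFiniteType.jacobsonSpace f
  have hfin : Module.Finite k₀ (X.residueField x) := by
    have := isClosed_singleton_iff_isClosedImmersion.1 hx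
    have : IsFinite (X.fromSpecResidueField x ≫ f) :=
      isFinite_iff_locallyOfFiniteType_of_jacobsonSpace.2 inferInstance
    rw [← SpecMap_resMap, IsFinite.SpecMap_iff] at this
    exact this
  rw [residueDegree_eq_finrank] at hd ⊢
  refine ⟨?_, Module.finrank_pos.ne'⟩
  have : Finite (X.residueField x) := Module.finite_of_finite k₀
  have hpow : ∀ a : X.residueField x, a ^ Nat.card k₀ ^ m = a := fun a => by
    rw [← FiniteField.orderOf_frobeniusAlgHom k₀ (X.residueField x), orderOf_dvd_iff_pow_eq_one]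
      at hd
    have := DFunLike.congr_fun hd a
    rwa [AlgHom.coe_pow, FiniteField.coe_frobeniusAlgHom, pow_iterate, ← Nat.card_eq_fintype_card]
      at this
  let e : FixedEmb f k (Nat.card k₀ ^ m) x ≃ (X.residueField x →ₐ[k₀] k) :=
    { toFun := fun ι => { ι.1.hom with
        commutes' := fun r => ConcreteCategory.congr_hom ι.2.1 r }
      invFun := fun φ => ⟨CommRingCat.ofHom φ.toRingHom, CommRingCat.hom_ext (RingHom.ext fun r => φ.commutes r),
        fun a => ((map_pow φ a _).symm).trans (congrArg φ (hpow a))⟩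
      left_inv := fun ι => Subtype.ext rfl
      right_inv := fun φ => AlgHom.ext fun _ => rfl }
  rw [Nat.card_congr e]
  exact AlgHom.natCard_of_splits _ _ _ (fun _ => IsAlgClosed.splits _)

lemma finite_fixed_points [QuasiCompact f] {m : ℕ} (hm : m ≠ 0) :
    {x : X | Nonempty (FixedEmb f k (Nat.card k₀ ^ m) x)}.Finite := by
  classical
  have : CompactSpace ↥X := QuasiCompact.compactSpace_of_compactSpace f
  obtain ⟨s, hs⟩ := isCompact_univ.elim_finite_subcover
    (fun U : X.affineOpens => ((U : X.Opens) : Set X)) (fun U => U.1.isOpen) (fun x _ => by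
      obtain ⟨U, hU, hx, -⟩ := exists_isAffineOpen_mem_and_subset (x := x) (U := ⊤) trivial
      exact Set.mem_iUnion.2 ⟨⟨U, hU⟩, hx⟩)
  suffices h : ∀ U : X.affineOpens,
      {x : X | x ∈ U.1 ∧ Nonempty (FixedEmb f k (Nat.card k₀ ^ m) x)}.Finite by
    refine (Set.Finite.biUnion s.finite_toSet fun U _ => h U).subset fun x hx => ?_
    obtain ⟨U, hU, hxU⟩ := Set.mem_iUnion₂.1 (hs (Set.mem_univ x))
    exact Set.mem_biUnion hU ⟨hxU, hx⟩
  intro U
  have hU : IsAffineOpen (U.1 : X.Opens) := U.2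
  let σ : CommRingCat.of k₀ ⟶ Γ(X, U) := structMap (Over.mk f) U.1
  letI := σ.hom.toAlgebra
  have : LocallyOfFiniteType (Over.mk f).hom := (inferInstance : LocallyOfFiniteType f)
  have : Algebra.FiniteType k₀ Γ(X, U) := structMap_finiteType (Over.mk f) hU
  obtain ⟨gens, hgens⟩ := this.out
  set Q := Nat.card k₀ ^ m with hQ
  let S : Set k := {a | a ^ Q = a}
  have : Finite S := by
    have hne : (Polynomial.X ^ Q - Polynomial.X : Polynomial k) ≠ 0 :=
      FiniteField.X_pow_card_sub_X_ne_zero k (one_lt_natCard_pow hm)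
    refine Set.Finite.to_subtype
      ((Finset.finite_toSet ((Polynomial.X ^ Q - Polynomial.X : Polynomial k).roots.toFinset)).subset
        fun a (ha : a ^ Q = a) => by simp [Polynomial.mem_roots hne, ha])
  have hκ : ∀ x (hx : x ∈ U.1), σ ≫ X.evaluation U.1 x hx = resMap f x := fun x hx =>
    structMap_evaluation (Over.mk f) U.1 x hx
  let pick : {x : X | x ∈ U.1 ∧ Nonempty (FixedEmb f k Q x)} →
      (Σ' φ : Γ(X, U) →ₐ[k₀] k, ∀ g, φ g ∈ S) := fun x =>
    ⟨{ ((X.evaluation U.1 x.1 x.2.1) ≫ x.2.2.some.1).hom with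
        commutes' := fun r => by
          have h1 := ConcreteCategory.congr_hom (hκ x.1 x.2.1) r
          have h2 := ConcreteCategory.congr_hom x.2.2.some.2.1 r
          exact (congrArg x.2.2.some.1 h1).trans h2 },
      fun g => x.2.2.some.2.2 _⟩
  have hpick : Function.Injective pick := fun x y h => by
    apply Subtype.ext
    have hk : (hU.primeIdealOf ⟨x.1, x.2.1⟩).asIdeal = (hU.primeIdealOf ⟨y.1, y.2.1⟩).asIdeal := by
      rw [primeIdealOf_eq_ker hU, primeIdealOf_eq_ker hU]
      ext a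
      have ha : x.2.2.some.1 (X.evaluation U.1 x.1 x.2.1 a) =
          y.2.2.some.1 (X.evaluation U.1 y.1 y.2.1 a) :=
        congrArg (fun p : Σ' φ : Γ(X, U) →ₐ[k₀] k, ∀ g, φ g ∈ S => p.1 a) h
      rw [RingHom.mem_ker, RingHom.mem_ker, ← map_eq_zero x.2.2.some.1.hom,
        ← map_eq_zero y.2.2.some.1.hom]
      exact Eq.congr_left ha
    have := congrArg hU.fromSpec (PrimeSpectrum.ext hk)
    rwa [hU.fromSpec_primeIdealOf, hU.fromSpec_primeIdealOf] at this
  have : Finite (Σ' φ : Γ(X, U) →ₐ[k₀] k, ∀ g, φ g ∈ S) := by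
    refine Finite.of_injective (fun p (g : gens) => (⟨p.1 g, p.2 g⟩ : S)) fun p p' h => ?_
    have : p.1 = p'.1 := AlgHom.ext_of_adjoin_eq_top hgens fun a ha =>
      congrArg Subtype.val (congrFun h ⟨a, ha⟩)
    obtain ⟨φ, _⟩ := p; obtain ⟨φ', _⟩ := p'
    cases this
    rfl
  exact Set.finite_coe_iff.1 (Finite.of_injective pick hpick)

variable (f k) in
lemma natCard_fixedEmb_sigma [QuasiCompact f] [IsAlgClosed k] {m : ℕ} (hm : m ≠ 0) :
    Finite (Σ x, FixedEmb f k (Nat.card k₀ ^ m) x) ∧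
      Nat.card (Σ x, FixedEmb f k (Nat.card k₀ ^ m) x) = Zeta.nPts f m := by
  classical
  set Q := Nat.card k₀ ^ m
  let D : ℕ → Set X := fun e => {x | IsClosed ({x} : Set X) ∧ EGA4loc.residueDegree f x = e}
  have hS := finite_fixed_points (f := f) (k := k) hm
  have hmem : ∀ x, Nonempty (FixedEmb f k Q x) ↔
      IsClosed ({x} : Set X) ∧ EGA4loc.residueDegree f x ∣ m := fun x => by
    refine ⟨fun ⟨ι⟩ => closed_and_dvd_of_fixedEmb hm ι, fun ⟨hx, hd⟩ => ?_⟩
    obtain ⟨h1, h2⟩ := natCard_fixedEmb (k := k) hx hd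
    exact (Nat.card_pos_iff.1 (h1.symm ▸ Nat.pos_of_ne_zero h2)).1
  have : ∀ x, Finite (FixedEmb f k Q x) := fun x => by
    by_cases h : Nonempty (FixedEmb f k Q x)
    · obtain ⟨hx, hd⟩ := (hmem x).1 h
      obtain ⟨h1, h2⟩ := natCard_fixedEmb (k := k) hx hd
      exact (Nat.card_pos_iff.1 (h1.symm ▸ Nat.pos_of_ne_zero h2)).2
    · rw [not_nonempty_iff] at h
      infer_instance
  let S := hS.toFinset
  let e : (Σ x, FixedEmb f k Q x) ≃ Σ x : S, FixedEmb f k Q x.1 :=
    { toFun := fun p => ⟨⟨p.1, hS.mem_toFinset.2 ⟨p.2⟩⟩, p.2⟩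
      invFun := fun p => ⟨p.1.1, p.2⟩
      left_inv := fun p => rfl
      right_inv := fun p => rfl }
  refine ⟨Finite.of_equiv _ e.symm, ?_⟩
  rw [Nat.card_congr e, Nat.card_sigma, Finset.sum_coe_sort S (fun x => Nat.card (FixedEmb f k Q x))]
  rw [Finset.sum_congr rfl (fun x hx =>
    let h := (hmem x).1 (hS.mem_toFinset.1 hx)
    (natCard_fixedEmb (k := k) h.1 h.2).1)]
  rw [← Finset.sum_fiberwise_of_maps_to (g := fun x => EGA4loc.residueDegree f x) (t := m.divisors)
    (fun x hx => Nat.mem_divisors.2 ⟨((hmem x).1 (hS.mem_toFinset.1 hx)).2, hm⟩)]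
  refine Finset.sum_congr rfl fun e' he' => ?_
  rw [Finset.sum_congr rfl (fun x hx => (Finset.mem_filter.1 hx).2), Finset.sum_const,
    smul_eq_mul, mul_comm]
  congr 1
  refine (Nat.card_eq_finsetCard _).symm.trans (Nat.card_congr (Equiv.subtypeEquivRight fun x => ?_))
  rw [Finset.mem_filter, hS.mem_toFinset, Set.mem_ofPred_eq, hmem]
  exact ⟨fun h => ⟨h.1.1, h.2⟩,
    fun h => ⟨⟨h.1, h.2 ▸ Nat.dvd_of_mem_divisors he'⟩, h.2⟩⟩

end Count

section Main

variable {k₀ : Type u} [Field k₀] [Finite k₀] {X : Scheme.{u}}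
variable (f : X ⟶ Spec (CommRingCat.of k₀))
variable (k : Type u) [Field k] [Algebra k₀ k]

/-- The morphism of spectra of the base fields. -/
abbrev baseMap : Spec (CommRingCat.of k) ⟶ Spec (CommRingCat.of k₀) :=
  Spec.map (CommRingCat.ofHom (algebraMap k₀ k))

/-- Points with values in `k` over `k₀` fixed by an endomorphism. -/
def FixHom (Φ : X ⟶ X) : Type u :=
  {h : Spec (CommRingCat.of k) ⟶ X // h ≫ f = baseMap (k₀ := k₀) k ∧ h ≫ Φ = h}

variable {k}

lemma specMap_residue_comp {Q : ℕ} {Φ : X ⟶ X} (hb : ∀ x, Φ x = x)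
    (hΦ : ∀ x a, stk Φ x x (hb x) a = a ^ Q) (φ : k →+* k) (hφ : ∀ a, φ a = a ^ Q) {x : X}
    (ι : X.residueField x ⟶ CommRingCat.of k) :
    (Spec.map ι ≫ X.fromSpecResidueField x) ≫ Φ =
      Spec.map (ι ≫ CommRingCat.ofHom φ) ≫ X.fromSpecResidueField x := by
  have e : Spec.map ι ≫ X.fromSpecResidueField x =
      Spec.map (X.residue x ≫ ι) ≫ X.fromSpecStalk x := by
    rw [Scheme.fromSpecResidueField, Spec.map_comp, Category.assoc]
  rw [e, comp_powEnd hb hΦ (X.residue x ≫ ι) (CommRingCat.ofHom φ) hφ]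
  simp only [Scheme.fromSpecResidueField, Spec.map_comp, Category.assoc]

variable (k) in
/-- Fixed points and embeddings of residue fields. -/
def fixHomEquiv {Q : ℕ} {Φ : X ⟶ X} (hb : ∀ x, Φ x = x)
    (hΦ : ∀ x a, stk Φ x x (hb x) a = a ^ Q) (φ : k →+* k) (hφ : ∀ a, φ a = a ^ Q) :
    FixHom f k Φ ≃ Σ x, FixedEmb f k Q x :=
  ((Scheme.SpecToEquivOfField k X).subtypeEquiv (q := fun p : Σ x, X.residueField x ⟶ CommRingCat.of k =>
      resMap f p.1 ≫ p.2 = CommRingCat.ofHom (algebraMap k₀ k) ∧ ∀ a, (p.2 a) ^ Q = p.2 a)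
    (fun h => by
      obtain ⟨p, rfl⟩ := (Scheme.SpecToEquivOfField k X).symm.surjective h
      rw [Equiv.apply_symm_apply]
      change ((Spec.map p.2 ≫ X.fromSpecResidueField p.1) ≫ f = _ ∧
        (Spec.map p.2 ≫ X.fromSpecResidueField p.1) ≫ Φ =
          Spec.map p.2 ≫ X.fromSpecResidueField p.1) ↔ _
      rw [specMap_residue_comp hb hΦ φ hφ, cancel_mono, Category.assoc, ← SpecMap_resMap,
        ← Spec.map_comp, Spec.map_inj, Spec.map_inj]
      refine and_congr Iff.rfl ⟨fun h a => ?_, fun h => ?_⟩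
      · exact (hφ _).symm.trans (ConcreteCategory.congr_hom h a)
      · ext a; exact (hφ _).trans (h a))).trans
    { toFun := fun p => ⟨p.1.1, p.1.2, p.2⟩
      invFun := fun p => ⟨⟨p.1, p.2.1⟩, p.2.2⟩
      left_inv := fun _ => rfl
      right_inv := fun _ => rfl }

variable [IsAlgClosed k] {Xb : Var k} {π : Xb.obj.left ⟶ X}
variable {FX : X ⟶ X} {F : Xb ⟶ Xb}

omit [Finite k₀] in
lemma sm_iter_comp (hF : sm F ≫ π = π ≫ FX) (m : ℕ) :
    sm (iter F m) ≫ π = π ≫ endIter FX m := by
  induction m with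
  | zero => exact (Category.id_comp π).trans (Category.comp_id π).symm
  | succ m ih =>
    change (sm (iter F m) ≫ sm F) ≫ π = π ≫ endIter FX m ≫ FX
    rw [Category.assoc, hF, ← Category.assoc, ih, Category.assoc]

/-- The multiplicity of a fixed point of an iterate of the Frobenius: the differential vanishes. -/
lemma stk_iter_mem_sq (hFb : FX.base = 𝟙 _) (hle : ∀ U : X.Opens, U ≤ FX ⁻¹ᵁ U)
    (hFapp : ∀ (U : X.Opens) (s : Γ(X, U)), (FX.appLE U U (hle U)).hom s = s ^ Nat.card k₀)
    (hπ : IsPullback π Xb.obj.hom f (baseMap (k₀ := k₀) k)) (hF : sm F ≫ π = π ≫ FX)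
    {m : ℕ} (hm : m ≠ 0) {g : Spec (CommRingCat.of k) ⟶ Xb.obj.left}
    (hg : g ≫ Xb.obj.hom = 𝟙 _) (hgG : g ≫ sm (iter F m) = g) {x : Xb.obj.left}
    (hgx : g (IsLocalRing.closedPoint k) = x) (hGx : sm (iter F m) x = x)
    {a : Xb.obj.left.presheaf.stalk x} (ha : a ∈ IsLocalRing.maximalIdeal _) :
    stk (sm (iter F m)) x x hGx a ∈
      IsLocalRing.maximalIdeal (Xb.obj.left.presheaf.stalk x) ^ 2 := by
  let O := Xb.obj.left.presheaf.stalk x
  let c : O ⟶ CommRingCat.of k :=
    Xb.obj.left.presheaf.stalkSpecializes (specializes_of_eq hgx) ≫ Scheme.stalkClosedPointTo g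
  have hc : Spec.map c ≫ Xb.obj.left.fromSpecStalk x = g := by
    rw [Spec.map_comp, Category.assoc, Scheme.SpecMap_stalkSpecializes_fromSpecStalk,
      Scheme.Spec_stalkClosedPointTo_fromSpecStalk]
  have hloc : IsLocalHom c.hom := by
    change IsLocalHom
      (Xb.obj.left.presheaf.stalkSpecializes (specializes_of_eq hgx) ≫
        Scheme.stalkClosedPointTo g).hom
    subst hgx
    simpa using (inferInstance : IsLocalHom (Scheme.stalkClosedPointTo g).hom)
  let σO : CommRingCat.of k ⟶ O := Spec.preimage (Xb.obj.left.fromSpecStalk x ≫ Xb.obj.hom)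
  have hσO : Spec.map σO = Xb.obj.left.fromSpecStalk x ≫ Xb.obj.hom := Spec.map_preimage _
  have hcσ : σO ≫ c = 𝟙 _ := Spec.map_injective (by
    rw [Spec.map_comp, hσO, ← Category.assoc, hc, hg, Spec.map_id])
  let m2 : Ideal O := IsLocalRing.maximalIdeal O ^ 2
  let R : CommRingCat.{u} := CommRingCat.of (O ⧸ m2)
  let mk : O ⟶ R := CommRingCat.ofHom (Ideal.Quotient.mk m2)
  let σR : CommRingCat.of k ⟶ R := σO ≫ mk
  have hcm : ∀ b : O, b ∈ IsLocalRing.maximalIdeal O → c b = 0 := fun b hb => by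
    by_contra h
    exact hb (isUnit_of_map_unit c.hom b (IsUnit.mk0 _ h))
  have hm2 : m2 ≤ RingHom.ker c.hom := fun b hb =>
    RingHom.mem_ker.2 (hcm b (Ideal.pow_le_self two_ne_zero hb))
  have hker : ∀ b : O, mk b - mk (σO (c b)) ∈
      Ideal.map mk.hom (IsLocalRing.maximalIdeal O) := fun b => by
    rw [← map_sub]
    refine Ideal.mem_map_of_mem _ ?_
    rw [IsLocalRing.mem_maximalIdeal]
    intro h
    have h0 : c (b - σO (c b)) = 0 := by
      rw [map_sub, show c (σO (c b)) = c b from ConcreteCategory.congr_hom hcσ (c b), sub_self]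
    exact (h.map c.hom).ne_zero h0
  set Q := Nat.card k₀ ^ m with hQ
  have hQ0 : (Q : R) = 0 := by
    rw [← map_natCast σR.hom]
    exact (congrArg σR.hom (natCard_pow_cast_eq_zero k hm)).trans (map_zero _)
  obtain ⟨Q', hQ'⟩ : ∃ Q', Q = Q' + 1 :=
    ⟨Q - 1, by have := one_lt_natCard_pow (k₀ := k₀) hm; omega⟩
  have hpowR : ∀ b : O, (mk b) ^ Q = σR (powK (k₀ := k₀) k m (c b)) := fun b => by
    have hsq : (mk b - σR (c b)) * (mk b - σR (c b)) = 0 := by
      have h := Ideal.mul_mem_mul (hker b) (hker b)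
      rw [← Ideal.map_mul, ← pow_two] at h
      rw [show Ideal.map mk.hom (IsLocalRing.maximalIdeal O ^ 2) = ⊥ from
        Ideal.map_quotient_self m2] at h
      exact (Submodule.mem_bot _).1 h
    calc (mk b) ^ Q = (σR (c b) + (mk b - σR (c b))) ^ (Q' + 1) := by
          rw [add_sub_cancel, hQ']
      _ = σR (c b) ^ (Q' + 1) + (Q' + 1 : R) * σR (c b) ^ Q' * (mk b - σR (c b)) :=
          add_pow_of_sq_zero _ _ hsq _
      _ = σR (powK (k₀ := k₀) k m (c b)) := by
          rw [show ((Q' : R) + 1) = 0 by rw [← hQ0, hQ', Nat.cast_succ], zero_mul, zero_mul,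
            add_zero, powK_apply, ← map_pow, ← hQ']
  let cR : R ⟶ CommRingCat.of k :=
    CommRingCat.ofHom (Ideal.Quotient.lift m2 c.hom fun b hb => RingHom.mem_ker.1 (hm2 hb))
  let φR : R ⟶ R := cR ≫ CommRingCat.ofHom (powK (k₀ := k₀) k m) ≫ σR
  have hφR : ∀ r, φR r = r ^ Q := fun r => by
    obtain ⟨b, rfl⟩ := Ideal.Quotient.mk_surjective r
    exact (hpowR b).symm
  let G := sm (iter F m)
  let t : Spec R ⟶ Xb.obj.left := Spec.map mk ≫ Xb.obj.left.fromSpecStalk x
  have hmkc : mk ≫ φR = c ≫ CommRingCat.ofHom (powK (k₀ := k₀) k m) ≫ σR := by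
    ext b; rfl
  have hb := endIter_apply (X := X) hFb m
  have hst := stk_endIter (q := Nat.card k₀) hFb hle hFapp m
  -- naturality of the Frobenius on the infinitesimal point and on the point
  have hπst := stk_spec π x (π x) rfl
  have ht : (t ≫ π) ≫ endIter FX m = Spec.map φR ≫ t ≫ π := by
    have e : t ≫ π = Spec.map (stk π x (π x) rfl ≫ mk) ≫ X.fromSpecStalk (π x) := by
      simp only [t, Spec.map_comp, Category.assoc, hπst]
    rw [e, comp_powEnd hb hst _ φR hφR, Spec.map_comp, Category.assoc]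
  have hgπ : Spec.map (CommRingCat.ofHom (powK (k₀ := k₀) k m)) ≫ g ≫ π = g ≫ π := by
    have e : g ≫ π = Spec.map (stk π x (π x) rfl ≫ c) ≫ X.fromSpecStalk (π x) := by
      rw [Spec.map_comp, Category.assoc, hπst, ← Category.assoc, hc]
    have h := comp_powEnd hb hst (stk π x (π x) rfl ≫ c)
      (CommRingCat.ofHom (powK (k₀ := k₀) k m)) (powK_apply k m)
    rw [← e, Spec.map_comp (stk π x (π x) rfl ≫ c), Category.assoc (Spec.map _) (Spec.map _), ← e,
      Category.assoc, ← sm_iter_comp hF, ← Category.assoc, hgG] at h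
    exact h.symm
  have htG : t ≫ G = Spec.map σR ≫ g := by
    apply hπ.hom_ext
    · calc (t ≫ G) ≫ π = (t ≫ π) ≫ endIter FX m := by
            simp only [G, Category.assoc, sm_iter_comp hF]
        _ = Spec.map (mk ≫ φR) ≫ Xb.obj.left.fromSpecStalk x ≫ π := by
            rw [ht, Spec.map_comp mk φR]
            simp only [t, Category.assoc]
        _ = Spec.map σR ≫ Spec.map (CommRingCat.ofHom (powK (k₀ := k₀) k m)) ≫ g ≫ π := by
            rw [hmkc, Spec.map_comp, Spec.map_comp]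
            simp only [Category.assoc]
            rw [← Category.assoc (Spec.map c), hc]
        _ = (Spec.map σR ≫ g) ≫ π := by rw [hgπ, Category.assoc]
    · have hw : G ≫ Xb.obj.hom = Xb.obj.hom := Over.w (iter F m).hom
      simp only [Category.assoc, hw, hg, Category.comp_id]
      simp only [t, σR, Spec.map_comp, hσO, Category.assoc]
  have key : stk G x x hGx ≫ mk = c ≫ σR := by
    refine stalk_hom_ext ?_
    rw [Spec.map_comp, Category.assoc, stk_spec, Spec.map_comp, Category.assoc, hc, ← htG,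
      Category.assoc]
  have := ConcreteCategory.congr_hom key a
  rw [CommRingCat.comp_apply, CommRingCat.comp_apply, hcm a ha, map_zero] at this
  exact Ideal.Quotient.eq_zero_iff_mem.1 this

variable {K : Type v} [Field K] [CharZero K]

/-- The Lefschetz number of an iterate of the Frobenius is the number of rational points. -/
theorem sum_trace_eq_nPts (T : Theory k K) [LocallyOfFiniteType f] [QuasiCompact f]
    (hFb : FX.base = 𝟙 _) (hle : ∀ U : X.Opens, U ≤ FX ⁻¹ᵁ U)
    (hFapp : ∀ (U : X.Opens) (s : Γ(X, U)), (FX.appLE U U (hle U)).hom s = s ^ Nat.card k₀)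
    (hπ : IsPullback π Xb.obj.hom f (baseMap (k₀ := k₀) k)) (hF : sm F ≫ π = π ≫ FX)
    {Pb : Var k} {p q : Pb ⟶ Xb} (hP : IsProd p q) {m : ℕ} (hm : m ≠ 0) :
    ∑ i ∈ Finset.range (2 * dim Xb.obj.left + 1), (-1 : K) ^ i *
        LinearMap.trace K _ ((T.pullDeg F (i : ℤ)) ^ m) = (Zeta.nPts f m : K) := by
  classical
  have hirr : IrreducibleSpace ↥Xb.obj.left := irreducibleSpace Xb
  have hlft : LocallyOfFiniteType Xb.obj.hom := locallyOfFiniteType_hom Xb
  have hlftP : LocallyOfFiniteType Pb.obj.hom := locallyOfFiniteType_hom Pb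
  have : JacobsonSpace ↥Xb.obj.left := LocallyOfFiniteType.jacobsonSpace Xb.obj.hom
  have : IsLocallyNoetherian Xb.obj.left :=
    LocallyOfFiniteType.isLocallyNoetherian Xb.obj.hom
  set G := iter F m
  obtain ⟨j, hjp, hjq⟩ := exists_lift_prod hP (𝟙 Xb) G
  obtain ⟨d, hdp, hdq⟩ := exists_lift_prod hP (𝟙 Xb) (𝟙 Xb)
  have hjpS : sm j ≫ sm p = 𝟙 _ := congrArg (fun φ : Xb ⟶ Xb => sm φ) hjp
  have hjqS : sm j ≫ sm q = sm G := congrArg (fun φ : Xb ⟶ Xb => sm φ) hjq
  have hdpS : sm d ≫ sm p = 𝟙 _ := congrArg (fun φ : Xb ⟶ Xb => sm φ) hdp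
  have hdqS : sm d ≫ sm q = 𝟙 _ := congrArg (fun φ : Xb ⟶ Xb => sm φ) hdq
  have := isClosedImmersion_section hjp
  have hL := tr_graph_mul_diag T hP hjp hjq hdp hdq
  simp only [G, pullDeg_iter] at hL
  rw [← hL, comm_left_even T (even_two_mul _) (T.cl_mem Pb _), tr_cl_graph_mul T hdp]
  set η := genericPoint ↥Xb.obj.left
  set ξ : Pb.obj.left := sm j η
  set W := (sm d) ⁻¹' closure ({ξ} : Set Pb.obj.left)
  have hcl : closure ({ξ} : Set Pb.obj.left) = Set.range (sm j) := by
    rw [show ({ξ} : Set Pb.obj.left) = sm j '' {η} from (Set.image_singleton).symm,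
      (sm j).isClosedEmbedding.closure_image_eq, genericPoint_closure, Set.image_univ]
  have hW : ∀ x, x ∈ W ↔ sm d x = sm j x := by
    intro x
    simp only [W, Set.mem_preimage, hcl]
    refine ⟨?_, fun h => ⟨x, h.symm⟩⟩
    rintro ⟨y, hy⟩
    have h := congrArg (sm p) hy
    rw [show sm p (sm j y) = (sm j ≫ sm p) y from rfl, hjpS,
      show sm p (sm d x) = (sm d ≫ sm p) x from rfl, hdpS] at h
    rw [show x = y from h.symm] at hy ⊢
    exact hy.symm
  let Fix := {g : Spec (CommRingCat.of k) ⟶ Xb.obj.left //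
    g ≫ Xb.obj.hom = 𝟙 _ ∧ g ≫ sm G = g}
  have hGh : sm G ≫ Xb.obj.hom = Xb.obj.hom := Over.w G.hom
  have hGπ : sm G ≫ π = π ≫ endIter FX m := sm_iter_comp hF m
  let e₁ : Fix ≃ FixHom f k (endIter FX m) :=
    { toFun := fun g => ⟨g.1 ≫ π, by rw [Category.assoc, hπ.w, ← Category.assoc, g.2.1, Category.id_comp],
        by rw [Category.assoc, ← hGπ, ← Category.assoc, g.2.2]⟩
      invFun := fun h => ⟨hπ.lift h.1 (𝟙 _) (by rw [h.2.1, Category.id_comp]),
        hπ.lift_snd _ _ _, by
          apply hπ.hom_ext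
          · rw [Category.assoc, hGπ, ← Category.assoc, hπ.lift_fst, h.2.2]
          · rw [Category.assoc, hGh]⟩
      left_inv := fun g => Subtype.ext (hπ.hom_ext (hπ.lift_fst _ _ _) (by
        rw [hπ.lift_snd, g.2.1]))
      right_inv := fun h => Subtype.ext (hπ.lift_fst _ _ _) }
  obtain ⟨hfinE, hcardE⟩ := natCard_fixedEmb_sigma f k hm
  let e₂ := e₁.trans (fixHomEquiv f k (endIter_apply hFb m) (stk_endIter hFb hle hFapp m)
    (powK (k₀ := k₀) k m) (powK_apply k m))
  have : Finite Fix := Finite.of_equiv _ e₂.symm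
  -- fixed points are the closed points of `W`
  let pnt : Fix → Xb.obj.left := fun g => g.1 (IsLocalRing.closedPoint k)
  have hpnt : ∀ g, pnt g ∈ W ∧ IsClosed ({pnt g} : Set Xb.obj.left) := fun g => by
    refine ⟨(hW _).2 ?_, ?_⟩
    · have : g.1 ≫ sm d = g.1 ≫ sm j := by
        apply hP.hom_ext
        · rw [Category.assoc, hdpS, Category.assoc, hjpS]
        · rw [Category.assoc, hdqS, Category.assoc, hjqS, g.2.2, Category.comp_id]
      exact congrArg (fun φ : Spec (CommRingCat.of k) ⟶ Pb.obj.left =>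
        φ (IsLocalRing.closedPoint k)) this
    · exact ((pointEquivClosedPoint Xb.obj.hom) ⟨g.1, g.2.1⟩).2
  have hclosed : ∀ x ∈ W, IsClosed ({x} : Set Xb.obj.left) → ∃ g, pnt g = x := fun x hx hxc => by
    let g := pointOfClosedPoint Xb.obj.hom x hxc
    have hg : g ≫ Xb.obj.hom = 𝟙 _ := pointOfClosedPoint_comp _ _ _
    have hgd : g ≫ sm d = g ≫ sm j := by
      refine ext_of_apply_closedPoint_eq Pb.obj.hom ?_ ?_ ?_
      · rw [Category.assoc, show sm d ≫ Pb.obj.hom = Xb.obj.hom from Over.w d.hom, hg]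
      · rw [Category.assoc, show sm j ≫ Pb.obj.hom = Xb.obj.hom from Over.w j.hom, hg]
      · change sm d (g (IsLocalRing.closedPoint k)) = sm j (g (IsLocalRing.closedPoint k))
        rw [show g (IsLocalRing.closedPoint k) = x from pointOfClosedPoint_apply _ _ _ _]
        exact (hW x).1 hx
    refine ⟨⟨g, hg, ?_⟩, pointOfClosedPoint_apply _ _ _ _⟩
    have := congrArg (fun φ => φ ≫ sm q) hgd
    simp only [Category.assoc, hdqS, hjqS, Category.comp_id] at this
    exact this.symm
  have hWeq : W = Set.range pnt := by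
    have hWc : IsClosed W := isClosed_closure.preimage (sm d).continuous
    have hrc : IsClosed (Set.range pnt) := by
      rw [← Set.iUnion_singleton_eq_range]
      exact isClosed_iUnion_of_finite fun g => (hpnt g).2
    refine subset_antisymm ?_ (Set.range_subset_iff.2 fun g => (hpnt g).1)
    rw [← closure_inter_closedPoints hWc]
    refine closure_minimal ?_ hrc
    rintro x ⟨hx, hxc⟩
    exact hclosed x hx hxc
  have hWcl : ∀ x ∈ W, IsClosed ({x} : Set Xb.obj.left) := fun x hx => by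
    obtain ⟨g, rfl⟩ := hWeq ▸ hx
    exact (hpnt g).2
  have hcomp : ∀ x, IsCompPt W x ↔ x ∈ W := fun x => ⟨fun h => h.1, fun hx => ⟨hx, fun y hy h =>
    ((hWcl y hy).closure_eq.subset (specializes_iff_mem_closure.1 h)).symm⟩⟩
  have hmult : ∀ (x : Xb.obj.left) (hx : IsCompPt W x), preimMult (sm d) ξ x hx.1 = 1 := by
    intro x hx
    obtain ⟨g, hgx⟩ := hclosed x hx.1 (hWcl x hx.1)
    have hdj : sm d x = sm j x := (hW x).1 hx.1
    set z := sm d x
    have hpz : sm p z = x := by
      change (sm d ≫ sm p) x = x; rw [hdpS]; rfl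
    have hqz : sm q z = x := by
      change (sm d ≫ sm q) x = x; rw [hdqS]; rfl
    have hGx : sm G x = x := by
      have h := congrArg (fun φ : Spec (CommRingCat.of k) ⟶ Xb.obj.left =>
        φ (IsLocalRing.closedPoint k)) g.2.2
      change sm G (pnt g) = pnt g at h
      rwa [hgx] at h
    let J := stk (sm j) x z hdj.symm
    let D := stk (sm d) x z rfl
    let P₁ := stk (sm p) z x hpz
    let Q₁ := stk (sm q) z x hqz
    have hDP : P₁ ≫ D = 𝟙 _ := by
      rw [stk_comp _ _ _ _ _ _ _ (by rw [hdpS]; rfl)]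
      exact (stk_eq _ (by rw [hdpS]; simp)).symm
    have hDQ : Q₁ ≫ D = 𝟙 _ := by
      rw [stk_comp _ _ _ _ _ _ _ (by rw [hdqS]; rfl)]
      exact (stk_eq _ (by rw [hdqS]; simp)).symm
    have hJP : P₁ ≫ J = 𝟙 _ := by
      rw [stk_comp _ _ _ _ _ _ _ (by rw [hjpS]; rfl)]
      exact (stk_eq _ (by rw [hjpS]; simp)).symm
    have hJQ : Q₁ ≫ J = stk (sm G) x x hGx := by
      rw [stk_comp _ _ _ _ _ _ _ (by rw [hjqS]; exact hGx)]
      exact stk_eq _ (by rw [stk_spec, hjqS])
    have hξz : ξ ⤳ z := specializes_iff_mem_closure.mpr hx.1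
    have hJker : ∀ u, J u = 0 → u ∈ RingHom.ker (Cyc.specMap z ξ hξz) := fun u hu => by
      have hsp : η ⤳ x := genericPoint_specializes x
      have e : Pb.obj.left.presheaf.stalkSpecializes hξz ≫ (sm j).stalkMap η =
          J ≫ Xb.obj.left.presheaf.stalkSpecializes hsp := by
        refine stalk_hom_ext ?_
        rw [Spec.map_comp, Category.assoc, Scheme.SpecMap_stalkSpecializes_fromSpecStalk,
          Scheme.SpecMap_stalkMap_fromSpecStalk, Spec.map_comp, Category.assoc, stk_spec,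
          Scheme.SpecMap_stalkSpecializes_fromSpecStalk_assoc]
      have h0 : (sm j).stalkMap η (Pb.obj.left.presheaf.stalkSpecializes hξz u) = 0 := by
        have := ConcreteCategory.congr_hom e u
        rw [CommRingCat.comp_apply, CommRingCat.comp_apply, hu, map_zero] at this
        exact this
      rw [RingHom.mem_ker]
      refine (IsLocalRing.residue_eq_zero_iff _).2 ?_
      rw [IsLocalRing.mem_maximalIdeal]
      intro hu'
      exact (hu'.map ((sm j).stalkMap η).hom).ne_zero h0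
    unfold preimMult
    let O := Xb.obj.left.presheaf.stalk x
    let I := Ideal.map ((sm d).stalkMap x).hom (RingHom.ker (Cyc.specMap z ξ hξz))
    have hI : ∀ a : O, a - stk (sm G) x x hGx a ∈ I := fun a => by
      have hu : J (Q₁ a - P₁ (stk (sm G) x x hGx a)) = 0 := by
        rw [map_sub, ← CommRingCat.comp_apply, ← CommRingCat.comp_apply, hJQ, hJP]
        simp
      have h := Ideal.mem_map_of_mem ((sm d).stalkMap x).hom (hJker _ hu)
      rw [stk_self (sm d) x] at h
      change D (Q₁ a - P₁ (stk (sm G) x x hGx a)) ∈ _ at h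
      rw [map_sub, ← CommRingCat.comp_apply, ← CommRingCat.comp_apply, hDQ, hDP] at h
      simpa [I, stk_self (sm d) x] using h
    have hIm : I = IsLocalRing.maximalIdeal O := by
      refine le_antisymm ?_ ?_
      · refine Ideal.map_le_iff_le_comap.2 fun u hu => ?_
        rw [Ideal.mem_comap, IsLocalRing.mem_maximalIdeal]
        intro h
        have := isUnit_of_map_unit ((sm d).stalkMap x).hom u h
        exact RingHom.ker_ne_top _ (Ideal.eq_top_of_isUnit_mem _ hu this)
      · refine Submodule.le_of_le_smul_of_le_jacobson_bot (IsNoetherian.noetherian _)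
          (IsLocalRing.maximalIdeal_le_jacobson _) fun a ha => ?_
        rw [← sub_add_cancel a (stk (sm G) x x hGx a)]
        refine Submodule.add_mem_sup (hI a) ?_
        rw [smul_eq_mul, ← pow_two]
        exact stk_iter_mem_sq f hFb hle hFapp hπ hF hm g.2.1 g.2.2 hgx hGx ha
    change (Module.length O (O ⧸ I)).toNat = 1
    rw [hIm]
    have : IsSimpleModule O (O ⧸ IsLocalRing.maximalIdeal O) :=
      isSimpleModule_iff_isCoatom.2 (IsLocalRing.maximalIdeal.isMaximal _).out
    rw [Module.length_eq_one, ENat.toNat_one]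
  have hdim := dim_prod T hP
  have hpull := T.cl_pull d ξ (fun w hw => by
      rw [pdim_of_isClosed (hWcl w hw.1), pdim_section hjp, pdim_genericPoint, hdim]
      push_cast; ring) (Or.inr hmult)
  rw [hpull]
  let e₃ : Fix ≃ {w : Xb.obj.left // IsCompPt W w} :=
    Equiv.ofBijective (fun g => ⟨pnt g, (hcomp _).2 (hpnt g).1⟩)
      ⟨fun g g' h => Subtype.ext (ext_of_apply_closedPoint_eq Xb.obj.hom g.2.1 g'.2.1
          (congrArg Subtype.val h)),
        fun w => by
          obtain ⟨g, hg⟩ := hclosed w.1 w.2.1 (hWcl _ w.2.1)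
          exact ⟨g, Subtype.ext hg⟩⟩
  have : Finite {w : Xb.obj.left // IsCompPt W w} := Finite.of_equiv _ e₃
  letI := Fintype.ofFinite {w : Xb.obj.left // IsCompPt W w}
  rw [finsum_eq_sum_of_fintype, map_sum]
  have hone : ∀ w : {w : Xb.obj.left // IsCompPt W w},
      T.tr Xb ((preimMult (sm d) ξ w.1 w.2.1 : K) • T.cl Xb w.1) = 1 := fun w => by
    rw [hmult w.1 w.2, Nat.cast_one, one_smul, tr_cl_closedPoint T Xb (hWcl _ w.2.1)]
  rw [Finset.sum_congr rfl (fun w _ => hone w), Finset.sum_const, nsmul_one,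
    Finset.card_univ, ← Nat.card_eq_fintype_card, ← Nat.card_congr e₃, Nat.card_congr e₂, hcardE]

end Main

end WeilLib
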