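import Mathlib.LinearAlgebra.Matrix.Charpoly.Coeff
import Mathlib.LinearAlgebra.Matrix.Adjugate
import Mathlib.LinearAlgebra.Charpoly.ToMatrix
import Mathlib.LinearAlgebra.Trace
import Mathlib.RingTheory.PowerSeries.Derivative
import Mathlib.RingTheory.PowerSeries.Exp
import Groth.Prelude.Def_W4c1zetahwZeta

/-!
# Logarithmic derivatives of characteristic polynomials and of exponentials
-/

universe u v

noncomputable section

open scoped Polynomial PowerSeries

namespace WeilLib

section Matrix

variable {R : Type v} [CommRing R] {m : Type u} [Fintype m] [DecidableEq m]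

open Polynomial in
/-- Jacobi's formula for the derivative of a determinant. -/
lemma derivative_det_eq (M : Matrix m m R[X]) :
    derivative M.det = Matrix.trace (M.adjugate * M.map derivative) := by
  have hcol : ∀ (i : m) (v : m → R[X]), (M.updateCol i v).det =
      ∑ σ : Equiv.Perm m, Equiv.Perm.sign σ • ((∏ j ∈ Finset.univ.erase i, M (σ j) j) * v (σ i)) := by
    intro i v
    rw [Matrix.det_apply]
    refine Finset.sum_congr rfl fun σ _ => ?_
    congr 1
    rw [← Finset.mul_prod_erase _ _ (Finset.mem_univ i), mul_comm, Matrix.updateCol_self]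
    congr 1
    refine Finset.prod_congr rfl fun j hj => ?_
    rw [Matrix.updateCol_ne (Finset.ne_of_mem_erase hj)]
  rw [Matrix.det_apply, map_sum]
  simp only [derivative_smul, Units.smul_def, derivative_prod_finset, Finset.smul_sum]
  rw [Finset.sum_comm, Matrix.trace]
  refine Finset.sum_congr rfl fun i _ => ?_
  have : (M.adjugate * M.map derivative).diag i = (M.updateCol i fun j => derivative (M j i)).det := by
    rw [← Matrix.cramer_apply, Matrix.cramer_eq_adjugate_mulVec]
    rfl
  rw [this, hcol]
  rfl

/-- The series `∑_{n ≥ 1} tr(A^n) T^n`. -/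
def traceSeries (A : Matrix m m R) : R⟦X⟧ :=
  PowerSeries.mk fun n => if n = 0 then 0 else (A ^ n).trace

open Polynomial in
/-- The logarithmic derivative of `det (1 - T A)`. -/
theorem X_mul_derivative_charpolyRev (A : Matrix m m R) :
    ((-(X * derivative A.charpolyRev) : R[X]) : R⟦X⟧) =
      (A.charpolyRev : R⟦X⟧) * traceSeries A := by
  let φ : R[X] →+* R⟦X⟧ := Polynomial.coeToPowerSeries.ringHom
  let M : Matrix m m R[X] := 1 - (X : R[X]) • A.map C
  let S : Matrix m m R⟦X⟧ := fun i j => PowerSeries.mk fun n => (A ^ n) i j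
  let CA : Matrix m m R⟦X⟧ := A.map PowerSeries.C
  have hM : φ.mapMatrix M = 1 - (PowerSeries.X : R⟦X⟧) • CA := by
    ext1 i j
    by_cases h : i = j <;>
      simp [M, CA, φ, h, Matrix.one_apply, Matrix.smul_apply, Matrix.map_apply,
        PowerSeries.commute_X _ |>.eq]
  have hS : φ.mapMatrix M * S = 1 := by
    rw [hM, sub_mul, one_mul, Matrix.smul_mul]
    ext1 i j
    rw [Matrix.sub_apply, Matrix.smul_apply, Matrix.mul_apply]
    ext n
    rw [map_sub, smul_eq_mul]
    cases n with
    | zero =>
      rw [PowerSeries.coeff_zero_X_mul, sub_zero]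
      by_cases h : i = j <;> simp [S, h, Matrix.one_apply]
    | succ n =>
      rw [PowerSeries.coeff_succ_X_mul, map_sum]
      simp only [CA, S, Matrix.map_apply, PowerSeries.coeff_C_mul, PowerSeries.coeff_mk]
      rw [← Matrix.mul_apply, ← pow_succ', sub_self]
      by_cases h : i = j <;> simp [h, Matrix.one_apply, PowerSeries.coeff_one]
  have hadj : (φ.mapMatrix M).adjugate = (φ M.det) • S := by
    have h := congrArg (fun N => N * S) (Matrix.adjugate_mul (φ.mapMatrix M))
    simp only [mul_assoc, hS, mul_one, Matrix.smul_mul, one_mul] at h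
    rw [h, ← RingHom.map_det]
  have hdM : M.map derivative = -A.map C := by
    ext1 i j
    by_cases h : i = j <;>
      simp [M, h, Matrix.one_apply, Matrix.smul_apply, Matrix.map_apply]
  change φ (-(X * derivative M.det)) = φ M.det * traceSeries A
  rw [derivative_det_eq, hdM, Matrix.mul_neg, Matrix.trace_neg, mul_neg, neg_neg, map_mul]
  have htr : φ (Matrix.trace (M.adjugate * A.map C)) = φ M.det * Matrix.trace (S * CA) := by
    refine (AddMonoidHom.map_trace φ.toAddMonoidHom _).trans ?_
    change Matrix.trace (φ.mapMatrix (M.adjugate * A.map C)) = _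
    have hCA : φ.mapMatrix (A.map C) = CA := by
      ext1 i j; simp [CA, φ]
    rw [map_mul, RingHom.map_adjugate, hadj, hCA, Matrix.smul_mul, Matrix.trace_smul, smul_eq_mul]
  rw [htr, mul_left_comm]
  congr 1
  have hX : φ X = (PowerSeries.X : R⟦X⟧) := by simp [φ]
  rw [hX]
  ext n
  cases n with
  | zero => simp [traceSeries]
  | succ n =>
    rw [PowerSeries.coeff_succ_X_mul, traceSeries, PowerSeries.coeff_mk, if_neg n.succ_ne_zero,
      Matrix.trace, map_sum, Matrix.trace, pow_succ]
    refine Finset.sum_congr rfl fun i _ => ?_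
    change PowerSeries.coeff n ((S * CA) i i) = _
    rw [Matrix.mul_apply, Matrix.diag, Matrix.mul_apply, map_sum]
    simp [S, CA, Matrix.map_apply]

end Matrix

section Endo

variable {K : Type v} [Field K] {V : Type u} [AddCommGroup V] [Module K V] [FiniteDimensional K V]

/-- The series `∑_{n ≥ 1} tr(f^n) T^n`. -/
def endTraceSeries (f : V →ₗ[K] V) : K⟦X⟧ :=
  PowerSeries.mk fun n => if n = 0 then 0 else LinearMap.trace K V (f ^ n)

/-- The logarithmic derivative of the reverse characteristic polynomial. -/
theorem X_mul_derivative_reverse_charpoly (f : V →ₗ[K] V) :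
    PowerSeries.X * PowerSeries.derivative K (f.charpoly.reverse : K⟦X⟧) =
      (f.charpoly.reverse : K⟦X⟧) * -endTraceSeries f := by
  classical
  let b := Module.finBasis K V
  have hS : endTraceSeries f = traceSeries (LinearMap.toMatrix b b f) := by
    simp only [endTraceSeries, traceSeries]
    congr 1
    funext n
    split_ifs
    · rfl
    · rw [LinearMap.trace_eq_matrix_trace K b, LinearMap.toMatrix_pow]
  rw [← LinearMap.charpoly_toMatrix f b, Matrix.reverse_charpoly, hS, mul_neg,
    ← X_mul_derivative_charpolyRev, Polynomial.coe_neg, neg_neg, Polynomial.coe_mul,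
    Polynomial.coe_X, PowerSeries.derivative_coe]

lemma constantCoeff_reverse_charpoly (f : V →ₗ[K] V) :
    PowerSeries.constantCoeff (f.charpoly.reverse : K⟦X⟧) = 1 := by
  rw [Polynomial.constantCoeff_coe, Polynomial.coeff_zero_reverse,
    (LinearMap.charpoly_monic f).leadingCoeff]

end Endo

section LogDeriv

variable {K : Type v} [Field K]

open PowerSeries

/-- Two series with logarithmic derivative `c`. -/
lemma eq_of_X_mul_derivative [CharZero K] {f g c : K⟦X⟧} (hc : constantCoeff c = 0)
    (hf : X * derivative K f = f * c) (hg : X * derivative K g = g * c)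
    (h0 : constantCoeff f = constantCoeff g) : f = g := by
  ext n
  induction n using Nat.strong_induction_on with
  | _ n ih =>
    cases n with
    | zero => simpa using h0
    | succ n =>
      have hfn := congrArg (coeff (n + 1)) hf
      have hgn := congrArg (coeff (n + 1)) hg
      rw [coeff_succ_X_mul, coeff_derivative, coeff_mul] at hfn hgn
      have : ∑ p ∈ Finset.antidiagonal (n + 1), coeff p.1 f * coeff p.2 c =
          ∑ p ∈ Finset.antidiagonal (n + 1), coeff p.1 g * coeff p.2 c := by
        refine Finset.sum_congr rfl fun p hp => ?_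
        rw [Finset.mem_antidiagonal] at hp
        rcases eq_or_ne p.2 0 with h | h
        · rw [h, coeff_zero_eq_constantCoeff_apply, hc, mul_zero, mul_zero]
        · rw [ih p.1 (by omega)]
      exact mul_right_cancel₀ (by exact_mod_cast n.succ_ne_zero : (n + 1 : K) ≠ 0)
        (hfn.trans (this.trans hgn.symm))

lemma X_mul_derivative_mul {f g a b : K⟦X⟧} (hf : X * derivative K f = f * a)
    (hg : X * derivative K g = g * b) : X * derivative K (f * g) = f * g * (a + b) := by
  rw [Derivation.leibniz, smul_eq_mul, smul_eq_mul]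
  linear_combination f * hg + g * hf

lemma X_mul_derivative_prod {ι : Type*} (s : Finset ι) {f a : ι → K⟦X⟧}
    (h : ∀ i ∈ s, X * derivative K (f i) = f i * a i) :
    X * derivative K (∏ i ∈ s, f i) = (∏ i ∈ s, f i) * ∑ i ∈ s, a i := by
  classical
  induction s using Finset.induction with
  | empty => simp
  | insert i s hi ih =>
    rw [Finset.prod_insert hi, Finset.sum_insert hi]
    exact X_mul_derivative_mul (h i (Finset.mem_insert_self _ _))
      (ih fun j hj => h j (Finset.mem_insert_of_mem hj))

end LogDeriv

section Zeta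

variable {k : Type u} [Field k] {X : AlgebraicGeometry.Scheme.{u}}
variable (f : X ⟶ AlgebraicGeometry.Spec (CommRingCat.of k))

open PowerSeries

lemma constantCoeff_logZeta : constantCoeff (Zeta.logZeta f) = 0 := by
  simp [Zeta.logZeta]

lemma constantCoeff_zetaFun : constantCoeff (Zeta.zetaFun f) = 1 := by
  have hg : HasSubst (Zeta.logZeta f) := HasSubst.of_constantCoeff_zero' (constantCoeff_logZeta f)
  rw [← coeff_zero_eq_constantCoeff_apply, Zeta.zetaFun, coeff_subst' hg,
    finsum_eq_single _ 0]
  · simp
  · intro d hd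
    rw [coeff_zero_eq_constantCoeff_apply, map_pow, constantCoeff_logZeta, zero_pow hd, smul_zero]

lemma X_mul_derivative_zetaFun :
    PowerSeries.X * derivative ℚ (Zeta.zetaFun f) =
      Zeta.zetaFun f * PowerSeries.mk fun m => (Zeta.nPts f m : ℚ) := by
  have hg : HasSubst (Zeta.logZeta f) := HasSubst.of_constantCoeff_zero' (constantCoeff_logZeta f)
  rw [Zeta.zetaFun, derivative_subst hg, derivative_exp, ← mul_assoc, mul_comm PowerSeries.X,
    mul_assoc]
  congr 1
  ext n
  cases n with
  | zero => simp [Zeta.nPts]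
  | succ n =>
    rw [coeff_succ_X_mul, coeff_derivative, Zeta.logZeta, coeff_mk, coeff_mk]
    have : (n + 1 : ℚ) ≠ 0 := by exact_mod_cast n.succ_ne_zero
    push_cast
    field_simp

end Zeta

section Combine

open PowerSeries

lemma sum_range_two_mul_add_one {M : Type*} [AddCommMonoid M] (g : ℕ → M) (n : ℕ) :
    ∑ i ∈ Finset.range (2 * n + 1), g i =
      ∑ i ∈ Finset.range (n + 1), g (2 * i) + ∑ i ∈ Finset.range n, g (2 * i + 1) := by
  induction n with
  | zero => simp
  | succ n ih =>
    have h1 : ∑ i ∈ Finset.range (2 * (n + 1) + 1), g i =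
        ∑ i ∈ Finset.range (2 * n + 1), g i + g (2 * n + 1) + g (2 * (n + 1)) := by
      rw [Finset.sum_range_succ g (2 * (n + 1)), show 2 * (n + 1) = (2 * n + 1) + 1 by ring,
        Finset.sum_range_succ g (2 * n + 1)]
    rw [h1, ih, Finset.sum_range_succ (fun i => g (2 * i)) (n + 1),
      Finset.sum_range_succ (fun i => g (2 * i + 1)) n]
    ac_rfl

variable {K : Type v} [Field K] [CharZero K] {k : Type u} [Field k] {X : AlgebraicGeometry.Scheme.{u}}
variable (f : X ⟶ AlgebraicGeometry.Spec (CommRingCat.of k))

/-- From the trace formula to the product formula. -/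
theorem zetaFun_mul_prod_eq (n : ℕ) (V : ℕ → Type*) [∀ i, AddCommGroup (V i)]
    [∀ i, Module K (V i)] [∀ i, FiniteDimensional K (V i)] (φ : ∀ i, V i →ₗ[K] V i)
    (h : ∀ m ≠ 0, ∑ i ∈ Finset.range (2 * n + 1), (-1 : K) ^ i * LinearMap.trace K (V i) (φ i ^ m)
      = (Zeta.nPts f m : K)) :
    PowerSeries.map (algebraMap ℚ K) (Zeta.zetaFun f) *
        ∏ i ∈ Finset.range (n + 1), ((φ (2 * i)).charpoly.reverse : K⟦X⟧) =
      ∏ i ∈ Finset.range n, ((φ (2 * i + 1)).charpoly.reverse : K⟦X⟧) := by
  set N : K⟦X⟧ := PowerSeries.mk fun m => (Zeta.nPts f m : K)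
  have hN : N = ∑ i ∈ Finset.range (n + 1), endTraceSeries (φ (2 * i)) -
      ∑ i ∈ Finset.range n, endTraceSeries (φ (2 * i + 1)) := by
    ext m
    rw [map_sub, map_sum, map_sum]
    simp only [N, endTraceSeries, coeff_mk]
    rcases eq_or_ne m 0 with rfl | hm
    · simp [Zeta.nPts]
    · simp only [if_neg hm]
      rw [← h m hm, sum_range_two_mul_add_one]
      simp [pow_succ, pow_mul, sub_eq_add_neg]
  have hZ : PowerSeries.X * derivative K (PowerSeries.map (algebraMap ℚ K) (Zeta.zetaFun f)) =
      PowerSeries.map (algebraMap ℚ K) (Zeta.zetaFun f) * N := by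
    have e := congrArg (PowerSeries.map (algebraMap ℚ K)) (X_mul_derivative_zetaFun f)
    rw [map_mul, map_mul, PowerSeries.map_X] at e
    convert e using 2
    · ext m; simp [coeff_derivative]
    · ext m; simp [N]
  have hE := X_mul_derivative_prod (Finset.range (n + 1))
    (f := fun i => ((φ (2 * i)).charpoly.reverse : K⟦X⟧))
    (fun i _ => X_mul_derivative_reverse_charpoly (φ (2 * i)))
  have hO := X_mul_derivative_prod (Finset.range n)
    (f := fun i => ((φ (2 * i + 1)).charpoly.reverse : K⟦X⟧))
    (fun i _ => X_mul_derivative_reverse_charpoly (φ (2 * i + 1)))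
  refine eq_of_X_mul_derivative ?_ (X_mul_derivative_mul hZ hE) (hO.trans ?_) ?_
  · simp [hN, endTraceSeries]
  · rw [hN]
    simp only [Finset.sum_neg_distrib]
    ring
  · have hc : constantCoeff (PowerSeries.map (algebraMap ℚ K) (Zeta.zetaFun f)) = 1 := by
      rw [← coeff_zero_eq_constantCoeff_apply, coeff_map, coeff_zero_eq_constantCoeff_apply,
        constantCoeff_zetaFun, map_one]
    rw [map_mul, hc, one_mul, map_prod, map_prod]
    rw [Finset.prod_eq_one fun i _ => constantCoeff_reverse_charpoly (φ (2 * i)),
      Finset.prod_eq_one fun i _ => constantCoeff_reverse_charpoly (φ (2 * i + 1))]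

end Combine

end WeilLib
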