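import Groth.Agent.WeilLib.Basic
import Groth.Agent.WeilLib.Geometry
import Mathlib.AlgebraicGeometry.AlgClosed.Basic
import Mathlib.AlgebraicGeometry.ProjectiveSpectrum.Basic

/-!
# The point as an object, the class of the generic point and traces of classes of closed points
-/

universe u v

noncomputable section

open AlgebraicGeometry CategoryTheory WeilCoh Topology

namespace WeilLib

section Pt

/-- Evaluation of a degree-zero fraction at `X₀ = 1`. -/
def awayEval (R : Type u) [CommRing R] :
    HomogeneousLocalization.Away (CohB1.polyGrading 0 R) (MvPolynomial.X 0) →+* R :=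
  (IsLocalization.Away.lift (S := Localization.Away (MvPolynomial.X (0 : Fin 1) : MvPolynomial (Fin 1) R))
    (MvPolynomial.X (0 : Fin 1)) (g := MvPolynomial.eval fun _ => (1 : R)) (by simp)).comp
    (algebraMap _ _)

lemma awayEval_algebraMap (R : Type u) [CommRing R] (r : R) :
    awayEval R (HomogeneousLocalization.fromZeroRingHom _ _
      (algebraMap R (CohB1.polyGrading 0 R 0) r)) = r := by
  simp only [awayEval, RingHom.comp_apply, HomogeneousLocalization.algebraMap_apply]
  have : HomogeneousLocalization.val (HomogeneousLocalization.fromZeroRingHom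
      (CohB1.polyGrading 0 R) (Submonoid.powers (MvPolynomial.X (0 : Fin 1)))
      (algebraMap R (CohB1.polyGrading 0 R 0) r)) =
      algebraMap (MvPolynomial (Fin 1) R) _ (MvPolynomial.C r) := by
    change Localization.mk _ _ = _
    rw [← Localization.mk_one_eq_algebraMap]
    rfl
  rw [this, IsLocalization.Away.lift_eq]
  simp

variable (k : Type u) [Field k]

set_option backward.isDefEq.respectTransparency false in
lemma isProjectiveOver_id : Neron.IsProjectiveOver k (Over.mk (𝟙 (Spec (CommRingCat.of k)))) := by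
  let R := ULift.{u} ℤ
  let a : Spec (CommRingCat.of R) ⟶ CohB1.ProjSpace 0 R :=
    Spec.map (CommRingCat.ofHom (awayEval R)) ≫
      Proj.awayι (CohB1.polyGrading 0 R) (MvPolynomial.X 0)
        (MvPolynomial.isHomogeneous_X R 0) one_pos
  have ha : a ≫ CohB1.ProjSpace.toSpec 0 R = 𝟙 _ := by
    simp only [a, CohB1.ProjSpace.toSpec, Category.assoc]
    rw [Proj.awayι_toSpecZero_assoc, ← Spec.map_comp, ← Spec.map_comp, ← Spec.map_id]
    congr 1
    ext r : 2
    exact awayEval_algebraMap R r
  let i : Spec (CommRingCat.of k) ⟶ CohB1.ProjSpaceOver 0 (Spec (CommRingCat.of k)) :=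
    Limits.pullback.lift (specULiftZIsTerminal.from _ ≫ a) (𝟙 _)
      (by rw [Category.assoc, ha, Category.comp_id, Category.id_comp])
  have hi : i ≫ CohB1.ProjSpaceOver.toBase 0 (Spec (CommRingCat.of k)) = 𝟙 _ :=
    Limits.pullback.lift_snd _ _ _
  refine ⟨0, i, ?_, hi⟩
  have : IsSeparated (CohB1.ProjSpace.toSpec 0 R) := by
    have := Proj.isSeparated (CohB1.polyGrading 0 R)
    unfold CohB1.ProjSpace.toSpec CohB1.ProjSpace
    infer_instance
  have : IsSeparated (CohB1.ProjSpaceOver.toBase 0 (Spec (CommRingCat.of k))) := by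
    unfold CohB1.ProjSpaceOver.toBase
    infer_instance
  have : IsClosedImmersion (i ≫ CohB1.ProjSpaceOver.toBase 0 (Spec (CommRingCat.of k))) := by
    rw [hi]; infer_instance
  exact IsClosedImmersion.of_comp i (CohB1.ProjSpaceOver.toBase 0 _)

/-- The point `Spec k` as an object. -/
def pt : Var k :=
  ⟨Over.mk (𝟙 (Spec (CommRingCat.of k))), inferInstanceAs (Smooth (𝟙 _)),
    isProjectiveOver_id k, inferInstanceAs (IrreducibleSpace ↥(Spec (CommRingCat.of k)))⟩

variable {k}

/-- The structure morphism, as a morphism to the point. -/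
def toPt (X : Var k) : X ⟶ pt k :=
  ObjectProperty.homMk (Over.homMk X.obj.hom (Category.comp_id _))

lemma sm_toPt (X : Var k) : sm (toPt X) = X.obj.hom := rfl

instance : Subsingleton ↥(pt k).obj.left :=
  inferInstanceAs (Subsingleton ↥(Spec (CommRingCat.of k)))

lemma dim_pt : dim (pt k).obj.left = 0 := natDim_eq_zero_of_subsingleton _

lemma isField_stalk_pt (y : (pt k).obj.left) : IsField ((pt k).obj.left.presheaf.stalk y) := by
  haveI : IrreducibleSpace ↥(pt k).obj.left := irreducibleSpace _
  have h : y = genericPoint ↥(pt k).obj.left := Subsingleton.elim _ _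
  subst h
  haveI : IsReduced (pt k).obj.left := inferInstanceAs (IsReduced (Spec (CommRingCat.of k)))
  exact isField_stalk_of_closure_mem_irreducibleComponents _ _
    (by rw [genericPoint_closure]; simp [irreducibleComponents_eq_singleton])

end Pt

section Classes

variable {k : Type u} [Field k] [IsAlgClosed k] {K : Type v} [Field K] [CharZero K]
variable (T : WeilCoh.Theory k K)

lemma cl_pt (y : (pt k).obj.left) : T.cl (pt k) y = 1 := (T.point _ dim_pt).1 y

lemma tr_one_pt : T.tr (pt k) 1 = 1 := (T.point _ dim_pt).2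

/-- The class of the generic point is `1`. -/
lemma cl_genericPoint (X : Var k) [IrreducibleSpace ↥X.obj.left] :
    T.cl X (genericPoint ↥X.obj.left) = 1 := by
  set η := genericPoint ↥X.obj.left
  set f := toPt X
  set ξ : ↥(pt k).obj.left := sm f η
  set F := (sm f) ⁻¹' closure ({ξ} : Set ↥(pt k).obj.left)
  have hF : F = Set.univ := by
    ext x
    have : sm f x = ξ := Subsingleton.elim _ _
    simp [F, this, subset_closure (Set.mem_singleton ξ)]
  have hcomp : ∀ w, IsCompPt F w ↔ w = η := by
    intro w
    constructor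
    · intro hw
      exact (hw.2 η (by rw [hF]; trivial) (genericPoint_specializes w)).symm
    · rintro rfl
      exact ⟨by rw [hF]; trivial,
        fun w _ h => (h.antisymm (genericPoint_specializes w)).eq⟩
  have hflat : Flat (sm f ∣_ ⊤) := by
    have : Smooth X.obj.hom := smooth_hom X
    have : Flat (sm f) := (inferInstance : Flat X.obj.hom)
    infer_instance
  have hdimξ : pdim (pt k).obj.left ξ = 0 := natDim_eq_zero_of_subsingleton _
  have h := T.cl_pull f ξ (fun w hw => by
      rw [(hcomp w).1 hw, pdim_genericPoint, hdimξ, dim_pt]; simp)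
    (Or.inl ⟨⊤, Set.subset_univ _, hflat⟩)
  rw [cl_pt, map_one] at h
  let w₀ : {w : X.obj.left // IsCompPt F w} := ⟨η, (hcomp η).2 rfl⟩
  rw [finsum_eq_single _ w₀ (fun w hw => absurd (Subtype.ext ((hcomp w.1).1 w.2)) hw)] at h
  suffices hm : preimMult (sm f) ξ η w₀.2.1 = 1 by
    rw [show (preimMult (sm f) ξ w₀.1 w₀.2.1) = 1 from hm, Nat.cast_one, one_smul] at h
    exact h.symm
  unfold preimMult
  have hker : RingHom.ker (Cyc.specMap (sm f η) ξ
      (specializes_iff_mem_closure.mpr w₀.2.1)) = ⊥ := by
    letI := (isField_stalk_pt (sm f η)).toField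
    exact (Ideal.eq_bot_or_top _).resolve_right (RingHom.ker_ne_top _)
  rw [hker, Ideal.map_bot]
  letI := (isField_stalk_genericPoint X).toField
  have e : Module.length (X.obj.left.presheaf.stalk η)
      (X.obj.left.presheaf.stalk η ⧸ (⊥ : Ideal (X.obj.left.presheaf.stalk η))) = 1 := by
    rw [(AlgEquiv.quotientBot (X.obj.left.presheaf.stalk η)
      (X.obj.left.presheaf.stalk η)).toLinearEquiv.length_eq]
    exact Module.length_eq_one _ _
  rw [e, ENat.toNat_one]

/-- A closed point has residue degree one over the point. -/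
lemma residueDegree_toPt (X : Var k) {x : X.obj.left} (hx : IsClosed ({x} : Set X.obj.left)) :
    (sm (toPt X)).residueDegree x = 1 := by
  have := locallyOfFiniteType_hom X
  let g := pointOfClosedPoint X.obj.hom x hx
  have hg : g ≫ X.obj.hom = 𝟙 _ := pointOfClosedPoint_comp _ _ _
  have hgx : g (IsLocalRing.closedPoint k) = x := pointOfClosedPoint_apply _ _ _ _
  let z : Spec (CommRingCat.of k) := IsLocalRing.closedPoint k
  have h1 : (g ≫ X.obj.hom).residueFieldMap z =
      X.obj.hom.residueFieldMap (g z) ≫ g.residueFieldMap z := Scheme.residueFieldMap_comp g _ z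
  have hbij : Function.Bijective ((g ≫ X.obj.hom).residueFieldMap z) := by
    haveI : IsOpenImmersion (g ≫ X.obj.hom) := by rw [hg]; infer_instance
    exact ConcreteCategory.bijective_of_isIso _
  rw [h1] at hbij
  have hs : Function.Surjective (X.obj.hom.residueFieldMap (g z)) := fun a => by
    obtain ⟨b, hb⟩ := hbij.2 (g.residueFieldMap z a)
    exact ⟨b, (g.residueFieldMap z).hom.injective hb⟩
  rw [← hgx]
  change X.obj.hom.residueDegree (g z) = 1
  letI := (X.obj.hom.residueFieldMap (g z)).hom.toAlgebra
  let e : _ ≃ₐ[(Spec (CommRingCat.of k)).residueField (X.obj.hom (g z))]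
      X.obj.left.residueField (g z) :=
    AlgEquiv.ofBijective (Algebra.ofId _ _) ⟨(X.obj.hom.residueFieldMap (g z)).hom.injective, hs⟩
  exact e.toLinearEquiv.finrank_eq.symm.trans (Module.finrank_self _)

/-- The class of a closed point has trace one. -/
lemma tr_cl_closedPoint (X : Var k) {x : X.obj.left} (hx : IsClosed ({x} : Set X.obj.left)) :
    T.tr X (T.cl X x) = 1 := by
  have h := T.cl_push (toPt X) x 1 (by rw [pdim_of_isClosed hx]; exact one_mem T _)
  rwa [map_one, mul_one, mul_one, residueDegree_toPt X hx, cl_pt, tr_one_pt, Nat.cast_one,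
    mul_one] at h

end Classes

section Graph

variable {k : Type u} [Field k] [IsAlgClosed k] {K : Type v} [Field K] [CharZero K]
variable (T : WeilCoh.Theory k K)

lemma pdim_section {X P : Var k} {p : P ⟶ X} {j : X ⟶ P} (h : j ≫ p = 𝟙 X) (η : X.obj.left) :
    pdim P.obj.left (sm j η) = pdim X.obj.left η := by
  have := isClosedImmersion_section h
  exact pdim_map_of_isClosedImmersion (sm j) η

/-- The class of the image of `η` under a section, tested against any class. -/
lemma tr_cl_section_mul {X P : Var k} {p : P ⟶ X} {j : X ⟶ P} (h : j ≫ p = 𝟙 X)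
    (η : X.obj.left) (a : T.H P) :
    T.tr P (T.cl P (sm j η) * a) = T.tr X (T.cl X η * T.pull j a) := by
  have := isClosedImmersion_section h
  refine LinearMap.congr_fun (hom_ext T (f := T.tr P ∘ₗ LinearMap.mulLeft K (T.cl P (sm j η)))
    (g := T.tr X ∘ₗ LinearMap.mulLeft K (T.cl X η) ∘ₗ (T.pull j).toLinearMap) fun i b hb => ?_) a
  change T.tr P (T.cl P (sm j η) * b) = T.tr X (T.cl X η * T.pull j b)
  by_cases hi : i = 2 * (pdim X.obj.left η : ℤ)
  · rw [T.cl_push j η b (hi ▸ hb), residueDegree_of_isClosedImmersion (sm j) η, Nat.cast_one,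
      one_mul]
  · rw [tr_mul_eq_zero T (T.cl_mem P _) hb (by
        rw [codim_cast, pdim_section h, top_def]; omega),
      tr_mul_eq_zero T (T.cl_mem X η) (pull_mem' T j hb) (by rw [codim_cast, top_def]; omega)]

/-- The class of a section's image, tested against any class. -/
lemma tr_cl_graph_mul {X P : Var k} [IrreducibleSpace ↥X.obj.left] {p : P ⟶ X} {j : X ⟶ P}
    (h : j ≫ p = 𝟙 X) (a : T.H P) :
    T.tr P (T.cl P (sm j (genericPoint ↥X.obj.left)) * a) = T.tr X (T.pull j a) := by
  rw [tr_cl_section_mul T h, cl_genericPoint, one_mul]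

lemma cl_graph_mem {X P : Var k} [IrreducibleSpace ↥X.obj.left] {p : P ⟶ X} {j : X ⟶ P}
    (h : j ≫ p = 𝟙 X) :
    T.cl P (sm j (genericPoint ↥X.obj.left)) ∈
      T.gr P (2 * (dim P.obj.left : ℤ) - 2 * (dim X.obj.left : ℤ)) := by
  have := T.cl_mem P (sm j (genericPoint ↥X.obj.left))
  rwa [codim_cast, pdim_section h, pdim_genericPoint, mul_sub] at this

lemma pull_pull {X Y Z : Var k} (f : X ⟶ Y) (g : Y ⟶ Z) (a : T.H Z) :
    T.pull f (T.pull g a) = T.pull (f ≫ g) a := by
  rw [T.pull_comp]; rfl

lemma pull_id_apply {X : Var k} (a : T.H X) : T.pull (𝟙 X) a = a := by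
  rw [T.pull_id]; rfl

end Graph

end WeilLib
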