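import Groth.Agent.WeilLib.Dim
import Groth.Agent.WeilLib.Point
import Groth.Prelude.Def_ChowOps

/-!
# Classes of cycles, degrees and push-forward
-/

universe u v

noncomputable section

open AlgebraicGeometry CategoryTheory WeilCoh

namespace WeilLib

section Dim

variable {k : Type u} [Field k]

/-- The weight induced from the point is the dimension of the closure. -/
lemma delta_eq_pdim (X : Over (Spec (CommRingCat.of k))) [LocallyOfFiniteType X.hom]
    {δ : X.left → ℤ} (hδ : Cyc.DeltaCompat X.hom δ (fun _ => 0)) (x : X.left) :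
    δ x = pdim X.left x := by
  letI := (kappaMap X x).hom.toAlgebra
  obtain ⟨n, hn, hδx⟩ := hδ x
  let S := Spec (CommRingCat.of k)
  let e : CommRingCat.of k ⟶ S.residueField (X.hom x) :=
    (Scheme.ΓSpecIso _).inv ≫ S.Γevaluation (X.hom x)
  have he : kappaMap X x = e ≫ X.hom.residueFieldMap x := by
    change (Scheme.ΓSpecIso _).inv ≫ X.hom.appTop ≫ X.left.Γevaluation x = _
    rw [← Scheme.Γevaluation_naturality, Category.assoc]
  have hsurj : Function.Surjective e := fun z => by
    obtain ⟨a, b, hb, hab⟩ := surjective_div_evaluation (isAffineOpen_top S) (X.hom x) trivial z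
    let i := (Scheme.ΓSpecIso (CommRingCat.of k)).commRingCatIsoToRingEquiv
    have hev : ∀ c, e (i c) = S.evaluation ⊤ (X.hom x) trivial c := fun c =>
      congrArg (S.Γevaluation (X.hom x)) (i.symm_apply_apply c)
    refine ⟨i a / i b, ?_⟩
    change e.hom (i a / i b) = z
    rw [map_div₀]
    change e (i a) / e (i b) = z
    rw [hev, hev, ← hab]
    exact mul_div_cancel_right₀ z hb
  letI := e.hom.toAlgebra
  letI := (X.hom.residueFieldMap x).hom.toAlgebra
  haveI : IsScalarTower k (S.residueField (X.hom x)) (X.left.residueField x) :=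
    IsScalarTower.of_algebraMap_eq fun a => ConcreteCategory.congr_hom he a
  haveI : Algebra.IsIntegral k (S.residueField (X.hom x)) := ⟨fun z => by
    obtain ⟨a, rfl⟩ := hsurj z
    exact isIntegral_algebraMap⟩
  obtain ⟨s, hs, hs'⟩ := pdim_eq_trdeg X x
  have h := trdeg_add_eq k (S.residueField (X.hom x)) (A := X.left.residueField x)
  rw [trdeg_eq_zero (R := k) (A := S.residueField (X.hom x)), zero_add, hn, hs'] at h
  have hns : n = s := by exact_mod_cast h
  rw [hδx, hns, zero_add]
  simp [pdim, natDim, hs]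

lemma isClosed_of_pdim_eq_zero (X : Over (Spec (CommRingCat.of k))) [LocallyOfFiniteType X.hom]
    {x : X.left} (h : pdim X.left x = 0) : IsClosed ({x} : Set X.left) := by
  obtain ⟨s, hs, -⟩ := pdim_eq_trdeg X x
  simp only [pdim, natDim, hs] at h
  have hs0 : s = 0 := by simpa using h
  have hsub : closure ({x} : Set X.left) = {x} := by
    refine subset_antisymm (fun y hy => ?_) subset_closure
    by_contra hne
    let Z : TopologicalSpace.IrreducibleCloseds ↥(closure ({x} : Set X.left)) :=
      ⟨closure {⟨x, subset_closure rfl⟩}, isIrreducible_singleton.closure, isClosed_closure⟩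
    let W : TopologicalSpace.IrreducibleCloseds ↥(closure ({x} : Set X.left)) :=
      ⟨closure {⟨y, hy⟩}, isIrreducible_singleton.closure, isClosed_closure⟩
    have hlt : W < Z := by
      refine lt_of_le_of_ne (fun z _ => ?_) fun he => ?_
      · change z ∈ closure ({⟨x, subset_closure rfl⟩} : Set ↥(closure ({x} : Set X.left)))
        rw [closure_subtype]
        simpa using z.2
      · have hxy : (⟨y, hy⟩ : ↥(closure ({x} : Set X.left))) ⤳ ⟨x, subset_closure rfl⟩ :=
          specializes_iff_mem_closure.2 ((congrArg SetLike.coe he).ge (subset_closure rfl))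
        exact hne ((hxy.map continuous_subtype_val).antisymm
          (specializes_iff_mem_closure.2 hy)).eq
    let l : LTSeries (TopologicalSpace.IrreducibleCloseds ↥(closure ({x} : Set X.left))) :=
      (RelSeries.singleton _ W).snoc Z hlt
    have := Order.LTSeries.length_le_krullDim l
    rw [show Order.krullDim _ = (s : WithBot ℕ∞) from hs, hs0,
      show l.length = 1 from rfl] at this
    exact absurd this (by norm_num)
  rw [← hsub]
  exact isClosed_closure

end Dim

section Cycles

variable {k : Type u} [Field k] [IsAlgClosed k] {K : Type v} [Field K] [CharZero K]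
variable (T : Theory k K) (X : Var k)

lemma finite_support_cycle (α : AlgebraicCycle X.obj.left ℤ) :
    (Function.support (α : X.obj.left → ℤ)).Finite := by
  have := compactSpace X
  simpa using (Function.locallyFinsupp.locallyFiniteSupport α).finite_inter_support_of_isCompact
    isCompact_univ

lemma clCyc_eq_sum (α : AlgebraicCycle X.obj.left ℤ) {s : Finset X.obj.left}
    (hs : Function.support (α : X.obj.left → ℤ) ⊆ ↑s) :
    T.clCyc X α = ∑ x ∈ s, ((α x : ℤ) : K) • T.cl X x := by
  refine finsum_eq_sum_of_support_subset _ fun x hx => hs ?_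
  rw [Function.mem_support] at hx ⊢
  intro h
  exact hx (by rw [h, Int.cast_zero, zero_smul])

lemma map_apply_eq_sum {Y : Scheme.{u}} (f : X.obj.left ⟶ Y) [QuasiCompact f]
    (δX : X.obj.left → ℤ) (δY : Y → ℤ) (α : AlgebraicCycle X.obj.left ℤ) [DecidableEq Y]
    {s : Finset X.obj.left} (hs : Function.support (α : X.obj.left → ℤ) ⊆ ↑s) (y : Y) :
    AlgebraicCycle.map f δX δY α y =
      ∑ x ∈ s.filter (fun x => f x = y), α x * (AlgebraicCycle.mapCoeff f δX δY x : ℤ) := by
  refine (Function.locallyFinsupp.map_apply _ _ _ _).trans ?_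
  refine finsum_mem_eq_sum_of_inter_support_eq _ ?_
  ext x
  simp only [Set.mem_inter_iff, Set.mem_preimage, Set.mem_singleton_iff, Function.mem_support,
    Finset.coe_filter, Set.mem_ofPred_eq]
  exact ⟨fun h => ⟨⟨hs (fun h0 => h.2 (by rw [h0, zero_mul])), h.1⟩, h.2⟩, fun h => ⟨h.1.2, h.2⟩⟩

/-- Compatibility of the class map with push-forward of cycles. -/
theorem tr_clCyc_map_mul {Y : Var k} (f : X ⟶ Y) [QuasiCompact (sm f)]
    (δX : X.obj.left → ℤ) (hδX : Cyc.DeltaCompat X.obj.hom δX (fun _ => 0))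
    (δY : Y.obj.left → ℤ) (hδY : Cyc.DeltaCompat Y.obj.hom δY (fun _ => 0))
    (α : AlgebraicCycle X.obj.left ℤ) (b : T.H Y) :
    T.tr Y (T.clCyc Y (AlgebraicCycle.map (sm f) δX δY α) * b) =
      T.tr X (T.clCyc X α * T.pull f b) := by
  classical
  have := locallyOfFiniteType_hom X
  have := locallyOfFiniteType_hom Y
  let s := (finite_support_cycle X α).toFinset
  have hs : Function.support (α : X.obj.left → ℤ) ⊆ ↑s :=
    fun x hx => (Set.Finite.mem_toFinset _).2 hx
  have hmap := map_apply_eq_sum X (sm f) δX δY α hs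
  have hsupp : Function.support (AlgebraicCycle.map (sm f) δX δY α : Y.obj.left → ℤ) ⊆
      ↑(s.image (sm f)) := by
    intro y hy
    rw [Function.mem_support, hmap] at hy
    obtain ⟨x, hx, -⟩ := Finset.exists_ne_zero_of_sum_ne_zero hy
    rw [Finset.mem_filter] at hx
    exact Finset.mem_image.2 ⟨x, hx.1, hx.2⟩
  rw [clCyc_eq_sum T X α hs, clCyc_eq_sum T Y _ hsupp]
  have e : ∑ y ∈ s.image (sm f), ((AlgebraicCycle.map (sm f) δX δY α y : ℤ) : K) • T.cl Y y =
      ∑ x ∈ s, ((α x : ℤ) : K) •
        ((AlgebraicCycle.mapCoeff (sm f) δX δY x : K) • T.cl Y (sm f x)) := by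
    rw [← Finset.sum_fiberwise_of_maps_to (g := fun x => sm f x) (t := s.image (sm f))
      (fun x hx => Finset.mem_image_of_mem _ hx)]
    refine Finset.sum_congr rfl fun y _ => ?_
    rw [hmap, Int.cast_sum, Finset.sum_smul]
    refine Finset.sum_congr rfl fun x hx => ?_
    rw [(Finset.mem_filter.1 hx).2, smul_smul, Int.cast_mul, Int.cast_natCast]
  rw [e, Finset.sum_mul, Finset.sum_mul, map_sum, map_sum]
  refine Finset.sum_congr rfl fun x _ => ?_
  simp only [smul_mul_assoc, map_smul, smul_eq_mul]
  congr 1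
  refine LinearMap.congr_fun (hom_ext T
    (f := (AlgebraicCycle.mapCoeff (sm f) δX δY x : K) • (T.tr Y ∘ₗ LinearMap.mulLeft K (T.cl Y (sm f x))))
    (g := T.tr X ∘ₗ LinearMap.mulLeft K (T.cl X x) ∘ₗ (T.pull f).toLinearMap) fun i c hc => ?_) b
  change (AlgebraicCycle.mapCoeff (sm f) δX δY x : K) * T.tr Y (T.cl Y (sm f x) * c) =
    T.tr X (T.cl X x * T.pull f c)
  have hcoeff : AlgebraicCycle.mapCoeff (sm f) δX δY x =
      if pdim X.obj.left x = pdim Y.obj.left (sm f x) then (sm f).residueDegree x else 0 := by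
    unfold AlgebraicCycle.mapCoeff
    refine if_congr ?_ rfl rfl
    rw [delta_eq_pdim X.obj hδX, delta_eq_pdim Y.obj hδY]
    exact Nat.cast_inj
  rw [hcoeff]
  by_cases hi : i = 2 * (pdim X.obj.left x : ℤ)
  · rw [T.cl_push f x c (hi ▸ hc)]
    split_ifs with h
    · rfl
    · have h0 : (sm f).residueDegree x = 0 := by
        by_contra h0
        exact h (pdim_eq_of_residueDegree_ne_zero f.hom x h0)
      rw [h0]
  · rw [tr_mul_eq_zero T (T.cl_mem X x) (pull_mem' T f hc) (by rw [codim_cast, top_def]; omega)]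
    split_ifs with h
    · rw [tr_mul_eq_zero T (T.cl_mem Y _) hc (by rw [codim_cast, top_def, ← h]; omega), mul_zero]
    · simp

lemma clCyc_mem_top (δ : X.obj.left → ℤ) (hδ : Cyc.DeltaCompat X.obj.hom δ (fun _ => 0))
    (α : AlgebraicCycle X.obj.left ℤ) (hα : α ∈ Cyc.Zk X.obj.left δ 0) :
    T.clCyc X α ∈ T.gr X (top X) := by
  classical
  have := locallyOfFiniteType_hom X
  rw [clCyc_eq_sum T X α (s := (finite_support_cycle X α).toFinset)
    (fun x hx => (Set.Finite.mem_toFinset _).2 hx)]
  refine Submodule.sum_mem _ fun x hx => Submodule.smul_mem _ _ ?_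
  rw [Set.Finite.mem_toFinset, Function.mem_support] at hx
  have h0 : δ x = 0 := by
    by_contra h
    exact hx (hα x h)
  rw [delta_eq_pdim X.obj hδ] at h0
  have := T.cl_mem X x
  rwa [codim_cast, h0, sub_zero] at this

/-- The degree of a zero-cycle is the trace of its class. -/
theorem deg_eq_tr [QuasiCompact X.obj.hom] (δ : X.obj.left → ℤ)
    (hδ : Cyc.DeltaCompat X.obj.hom δ (fun _ => 0))
    (α : AlgebraicCycle X.obj.left ℤ) (hα : α ∈ Cyc.Zk X.obj.left δ 0) :
    (ChowOps.deg X.obj.hom δ α : K) = T.tr X (T.clCyc X α) := by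
  classical
  have := locallyOfFiniteType_hom X
  let s := (finite_support_cycle X α).toFinset
  have hs : Function.support (α : X.obj.left → ℤ) ⊆ ↑s :=
    fun x hx => (Set.Finite.mem_toFinset _).2 hx
  rw [ChowOps.deg]
  erw [map_apply_eq_sum X X.obj.hom δ (fun _ => (0 : ℤ)) α hs]
  rw [clCyc_eq_sum T X α hs, map_sum]
  refine (congrArg Int.cast (Finset.sum_congr (s₂ := s) (Finset.ext fun x => ?_)
    fun _ _ => rfl)).trans ?_
  · simp only [Finset.mem_filter]
    refine ⟨fun h => h.1, fun h => ⟨h, ?_⟩⟩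
    exact Subsingleton.elim (α := ↥(Spec (CommRingCat.of k))) _ _
  rw [Int.cast_sum]
  refine Finset.sum_congr rfl fun x hx => ?_
  rw [Set.Finite.mem_toFinset, Function.mem_support] at hx
  have h0 : δ x = 0 := by
    by_contra h
    exact hx (hα x h)
  have hp : pdim X.obj.left x = 0 := by
    have := delta_eq_pdim X.obj hδ x
    omega
  have hx' := isClosed_of_pdim_eq_zero X.obj hp
  rw [AlgebraicCycle.mapCoeff, if_pos h0, map_smul, tr_cl_closedPoint T X hx', smul_eq_mul,
    mul_one, show X.obj.hom.residueDegree x = 1 from residueDegree_toPt X hx']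
  simp

theorem isHomEquivZero_iff_deg [QuasiCompact X.obj.hom] (δ : X.obj.left → ℤ)
    (hδ : Cyc.DeltaCompat X.obj.hom δ (fun _ => 0))
    (α : AlgebraicCycle X.obj.left ℤ) (hα : α ∈ Cyc.Zk X.obj.left δ 0) :
    T.IsHomEquivZero X α ↔ ChowOps.deg X.obj.hom δ α = 0 := by
  rw [← Int.cast_eq_zero (α := K), deg_eq_tr T X δ hδ α hα]
  refine ⟨fun h => by rw [show T.clCyc X α = 0 from h, map_zero], fun h => ?_⟩
  exact top_ext T (clCyc_mem_top T X δ hδ α hα) (Submodule.zero_mem _) (by rw [h, map_zero])

end Cycles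

end WeilLib
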