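import Groth.Agent.WeilLib.Point
import Mathlib.LinearAlgebra.Trace
import Mathlib.LinearAlgebra.FiniteDimensional.Basic

/-!
# Dual bases, correspondences and the trace formula
-/

universe u v w

noncomputable section

open AlgebraicGeometry CategoryTheory WeilCoh

namespace WeilLib

section Bases

variable {k : Type u} [Field k] {P : ObjectProperty (Over (Spec (CommRingCat.of k)))}
variable {K : Type v} [Field K] (T : TheoryOn.{u, v, w} k P K) (X : P.FullSubcategory)

/-- A basis of the degree `i` cohomology. -/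
def bas (i : ℤ) : Module.Basis (Fin (Module.finrank K (T.gr X i))) K (T.gr X i) :=
  have := T.finite X i
  Module.finBasis K (T.gr X i)

/-- The Poincaré dual basis. -/
def dualBas (i : ℤ) (l : Fin (Module.finrank K (T.gr X i))) : T.gr X (top X - i) :=
  haveI := T.duality X (top X - i) i (by simp [top])
  (pairing K (T.gr X (top X - i)) (T.gr X i) (T.tr X)).toPerfPair.symm ((bas T X i).coord l)

lemma tr_dualBas_mul (i : ℤ) (l : Fin (Module.finrank K (T.gr X i))) (y : T.gr X i) :
    T.tr X ((dualBas T X i l : T.H X) * (y : T.H X)) = (bas T X i).repr y l := by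
  have := T.duality X (top X - i) i (by simp [top])
  exact LinearMap.congr_fun (LinearMap.apply_symm_toPerfPair_self
    (p := pairing K (T.gr X (top X - i)) (T.gr X i) (T.tr X)) ((bas T X i).coord l)) y

/-- The trace of an endomorphism through dual bases. -/
lemma trace_eq_sum (i : ℤ) (M : T.gr X i →ₗ[K] T.gr X i) :
    LinearMap.trace K _ M =
      ∑ l, T.tr X ((dualBas T X i l : T.H X) * (M (bas T X i l) : T.H X)) := by
  rw [LinearMap.trace_eq_matrix_trace K (bas T X i), Matrix.trace]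
  simp [Matrix.diag, LinearMap.toMatrix_apply, tr_dualBas_mul]

/-- Expanding a trace pairing through dual bases. -/
lemma sum_dual_expand {i : ℤ} (a : T.H X) (d : T.gr X i) :
    ∑ l, T.tr X ((dualBas T X i l : T.H X) * (d : T.H X)) *
      T.tr X ((bas T X i l : T.H X) * a) = T.tr X ((d : T.H X) * a) := by
  simp only [tr_dualBas_mul]
  conv_rhs => rw [← (bas T X i).sum_repr d]
  simp only [Submodule.coe_sum, Submodule.coe_smul, Finset.sum_mul, smul_mul_assoc, map_sum,
    map_smul, smul_eq_mul]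

end Bases

section Act

variable {k : Type u} [Field k] {P : ObjectProperty (Over (Spec (CommRingCat.of k)))}
variable {K : Type v} [Field K] (T : TheoryOn.{u, v, w} k P K)
variable {X Y Q : P.FullSubcategory} (p : Q ⟶ X) (q : Q ⟶ Y)

/-- The class `q_*(p^* x · z)`. -/
def act {i s : ℤ} (z : T.gr Q s) : T.gr X i →ₗ[K] T.gr Y (i + s + top Y - top Q) :=
  (T.push q (i + s)) ∘ₗ
    ((LinearMap.mulRight K (z : T.H Q)).restrict (p := T.gr Q i) (q := T.gr Q (i + s))
      fun _ hx => mul_mem T hx z.2) ∘ₗ (T.pullDeg p i)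

lemma tr_act_mul {i s : ℤ} (z : T.gr Q s) (x : T.gr X i) (y : T.H Y) :
    T.tr Y ((act T p q z x : T.H Y) * y) =
      T.tr Q (T.pull p (x : T.H X) * (z : T.H Q) * T.pull q y) :=
  tr_push_mul T q _ _ y

lemma act_eq {i s : ℤ} (z : T.gr Q s) (x : T.gr X i) {c : T.H Y}
    (hc : c ∈ T.gr Y (i + s + top Y - top Q))
    (h : ∀ y ∈ T.gr Y (top Q - (i + s)),
      T.tr Y (c * y) = T.tr Q (T.pull p (x : T.H X) * (z : T.H Q) * T.pull q y)) :
    (act T p q z x : T.H Y) = c :=
  push_eq T q _ _ hc h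

lemma act_add {i s : ℤ} (z z' : T.gr Q s) (x : T.gr X i) :
    (act T p q (z + z') x : T.H Y) = (act T p q z x : T.H Y) + (act T p q z' x : T.H Y) := by
  refine act_eq T p q _ x (Submodule.add_mem _ (act T p q z x).2 (act T p q z' x).2) fun y _ => ?_
  simp [add_mul, mul_add, tr_act_mul]

lemma act_smul {i s : ℤ} (c : K) (z : T.gr Q s) (x : T.gr X i) :
    (act T p q (c • z) x : T.H Y) = c • (act T p q z x : T.H Y) := by
  refine act_eq T p q _ x (Submodule.smul_mem _ _ (act T p q z x).2) fun y _ => ?_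
  simp [smul_mul_assoc, mul_smul_comm, tr_act_mul]

lemma act_zero {i s : ℤ} (x : T.gr X i) : act T p q (0 : T.gr Q s) x = 0 := by
  refine Subtype.ext ?_
  simpa using act_smul T p q (0 : K) (0 : T.gr Q s) x

variable {p q} in
/-- A product class acts through a rank one map. -/
lemma act_pure (hQ : IsProd p q) {i s j : ℤ} {a : T.H X} {b : T.H Y} (ha : a ∈ T.gr X j)
    (hb : b ∈ T.gr Y (s - j)) (z : T.gr Q s) (hz : (z : T.H Q) = T.pull p a * T.pull q b)
    (x : T.gr X i) :
    (act T p q z x : T.H Y) = T.tr X ((x : T.H X) * a) • b := by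
  refine act_eq T p q z x ?_ fun y _ => ?_
  · by_cases h : i + j = top X
    · refine Submodule.smul_mem _ _ ?_
      rwa [show i + s + top Y - top Q = s - j by rw [top_prod T hQ]; omega]
    · rw [tr_mul_eq_zero T x.2 ha h, zero_smul]; exact Submodule.zero_mem _
  · rw [smul_mul_assoc, map_smul, smul_eq_mul, hz, ← mul_assoc, ← map_mul, mul_assoc, ← map_mul,
      tr_kunneth T hQ]

end Act

section Swap

variable {k : Type u} [Field k] {P : ObjectProperty (Over (Spec (CommRingCat.of k)))}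
variable {K : Type v} [Field K] (T : TheoryOn.{u, v, w} k P K)
variable {X Y Q Q' : P.FullSubcategory} {p : Q ⟶ X} {q : Q ⟶ Y} {p' : Q' ⟶ Y} {q' : Q' ⟶ X}

/-- The trace formula for two correspondences in opposite directions. -/
theorem tr_mul_swap (hQ : IsProd p q) (hQ' : IsProd p' q') {σ : Q ⟶ Q'}
    (hσ₁ : σ ≫ p' = q) (hσ₂ : σ ≫ q' = p) {s s' : ℤ} (hs : s + s' = top Q)
    (φ : T.gr Q s) (ψ : T.gr Q' s') :
    T.tr Q ((φ : T.H Q) * T.pull σ (ψ : T.H Q')) =
      ∑ i ∈ Finset.range (2 * dim X.obj.left + 1), sgn K (i : ℤ) *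
        ∑ l, T.tr X ((dualBas T X i l : T.H X) *
          (act T p' q' ψ (act T p q φ (bas T X i l)) : T.H X)) := by
  obtain ⟨φ, hφ⟩ := φ
  obtain ⟨ψ, hψ⟩ := ψ
  have hφ' : φ ∈ prodSpan T p q s := gr_prod T hQ s ▸ hφ
  induction hφ' using Submodule.span_induction with
  | zero =>
    have h0 : (⟨0, hφ⟩ : T.gr Q s) = 0 := rfl
    simp [h0, act_zero]
  | add z z' hz hz' ihz ihz' =>
    have hz₁ := prodSpan_le T p q s hz
    have hz₂ := prodSpan_le T p q s hz'
    have e : (⟨z + z', hφ⟩ : T.gr Q s) = ⟨z, hz₁⟩ + ⟨z', hz₂⟩ := rfl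
    have key : ∀ (i : ℤ) (x : T.gr X i),
        (act T p' q' ⟨ψ, hψ⟩ (act T p q ⟨z + z', hφ⟩ x) : T.H X) =
          (act T p' q' ⟨ψ, hψ⟩ (act T p q ⟨z, hz₁⟩ x) : T.H X) +
            (act T p' q' ⟨ψ, hψ⟩ (act T p q ⟨z', hz₂⟩ x) : T.H X) := fun i x => by
      rw [e, show act T p q (⟨z, hz₁⟩ + ⟨z', hz₂⟩) x = act T p q ⟨z, hz₁⟩ x + act T p q ⟨z', hz₂⟩ x
        from Subtype.ext (act_add T p q _ _ x), map_add]
      rfl
    simp only [key, mul_add, map_add, Finset.sum_add_distrib, add_mul, ihz hz₁, ihz' hz₂]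
  | smul c z hz ihz =>
    have hz₁ := prodSpan_le T p q s hz
    have key : ∀ (i : ℤ) (x : T.gr X i),
        (act T p' q' ⟨ψ, hψ⟩ (act T p q ⟨c • z, hφ⟩ x) : T.H X) =
          c • (act T p' q' ⟨ψ, hψ⟩ (act T p q ⟨z, hz₁⟩ x) : T.H X) := fun i x => by
      rw [show act T p q ⟨c • z, hφ⟩ x = c • act T p q ⟨z, hz₁⟩ x
        from Subtype.ext (act_smul T p q c ⟨z, hz₁⟩ x), map_smul]
      rfl
    simp only [key, smul_mul_assoc, mul_smul_comm, map_smul, smul_eq_mul, ihz hz₁,
      Finset.mul_sum]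
    refine Finset.sum_congr rfl fun i _ => Finset.sum_congr rfl fun l _ => ?_
    ring
  | mem z hz =>
    obtain ⟨ia, a, b, ha, hb, rfl⟩ := hz
    have hψ' : ψ ∈ prodSpan T p' q' s' := gr_prod T hQ' s' ▸ hψ
    induction hψ' using Submodule.span_induction with
    | zero =>
      have h0 : (⟨0, hψ⟩ : T.gr Q' s') = 0 := rfl
      simp [h0, act_zero]
    | add z z' hz hz' ihz ihz' =>
      have hz₁ := prodSpan_le T p' q' s' hz
      have hz₂ := prodSpan_le T p' q' s' hz'
      have e : (⟨z + z', hψ⟩ : T.gr Q' s') = ⟨z, hz₁⟩ + ⟨z', hz₂⟩ := rfl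
      simp only [e, act_add, mul_add, map_add, Finset.sum_add_distrib, ihz hz₁, ihz' hz₂]
    | smul c z hz ihz =>
      have hz₁ := prodSpan_le T p' q' s' hz
      have e : (⟨c • z, hψ⟩ : T.gr Q' s') = c • ⟨z, hz₁⟩ := rfl
      simp only [e, act_smul, mul_smul_comm, map_smul, smul_eq_mul, ihz hz₁, Finset.mul_sum]
      refine Finset.sum_congr rfl fun i _ => Finset.sum_congr rfl fun l _ => ?_
      ring
    | mem z hz =>
      obtain ⟨jc, c, d, hc, hd, rfl⟩ := hz
      have hrhs : ∀ (i : ℤ) (x : T.gr X i),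
          (act T p' q' ⟨T.pull p' c * T.pull q' d, hψ⟩
              (act T p q ⟨T.pull p a * T.pull q b, hφ⟩ x) : T.H X) =
            (T.tr Y (b * c) * T.tr X ((x : T.H X) * a)) • d := fun i x => by
        rw [act_pure T hQ' hc hd _ rfl, act_pure T hQ ha hb _ rfl, smul_mul_assoc, map_smul,
          smul_eq_mul, mul_comm]
      simp only [hrhs, mul_smul_comm, map_smul, smul_eq_mul]
      have hlhs : T.tr Q (T.pull p a * T.pull q b * T.pull σ (T.pull p' c * T.pull q' d)) =
          T.tr X (a * d) * T.tr Y (b * c) := by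
        have e1 : ∀ y, T.pull σ (T.pull p' y) = T.pull q y := fun y => by
          rw [← hσ₁, T.pull_comp]; rfl
        have e2 : ∀ y, T.pull σ (T.pull q' y) = T.pull p y := fun y => by
          rw [← hσ₂, T.pull_comp]; rfl
        rw [map_mul (T.pull σ), e1, e2]
        rw [show T.pull p a * T.pull q b * (T.pull q c * T.pull p d) =
          T.pull p a * (T.pull q (b * c) * T.pull p d) by rw [map_mul (T.pull q)]; simp only [mul_assoc]]
        rw [comm T (pull_mem' T q (mul_mem T hb hc)) (pull_mem' T p hd), mul_smul_comm,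
          ← mul_assoc, ← map_mul (T.pull p), map_smul, tr_kunneth T hQ, smul_eq_mul]
        by_cases h : s - ia + jc = top Y
        · rw [h, sgn_even K ((even_top Y).mul_right _), one_mul]
        · rw [tr_mul_eq_zero T hb hc h, mul_zero, mul_zero]
      rw [hlhs]
      by_cases hdr : 0 ≤ s' - jc ∧ s' - jc ≤ top X
      · obtain ⟨i₀, hi₀⟩ : ∃ i₀ : ℕ, (i₀ : ℤ) = s' - jc := ⟨(s' - jc).toNat, by omega⟩
        rw [Finset.sum_eq_single i₀]
        · have hd' : d ∈ T.gr X (i₀ : ℤ) := hi₀.symm ▸ hd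
          have hex := sum_dual_expand T X a ⟨d, hd'⟩
          rw [tr_mul_comm T ha hd]
          by_cases h : ia + (s' - jc) = top X
          · rw [show sgn K ia = sgn K (i₀ : ℤ) from sgn_eq_of_even_sub K (by
              rw [show ia - (i₀ : ℤ) = top X + (-2) * (i₀ : ℤ) by omega]
              exact (even_top X).add (Even.mul_right ⟨-1, by norm_num⟩ _))]
            rw [mul_assoc, ← hex, Finset.sum_mul]
            congr 1
            refine Finset.sum_congr rfl fun l _ => ?_
            ring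
          · have h0 : ∀ l, T.tr X ((bas T X (i₀ : ℤ) l : T.H X) * a) = 0 := fun l =>
              tr_mul_eq_zero T (bas T X _ l).2 ha (by omega)
            simp [h0, tr_mul_eq_zero T hd ha (by omega : s' - jc + ia ≠ top X)]
        · intro i _ hi
          rw [Finset.sum_eq_zero, mul_zero]
          intro l _
          rw [tr_mul_eq_zero T (dualBas T X _ l).2 hd (by omega), mul_zero]
        · intro h
          exact absurd (Finset.mem_range.2 (by simp only [top] at hdr; omega)) h
      · have hd0 : d = 0 := eq_zero_of_vanish T hd (by omega)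
        simp [hd0]

end Swap

section Graph

variable {k : Type u} [Field k] [IsAlgClosed k] {K : Type v} [Field K] [CharZero K]
variable (T : WeilCoh.Theory k K) {X Q : Var k} [IrreducibleSpace ↥X.obj.left]
variable {p q : Q ⟶ X} {j : X ⟶ Q} {φ : X ⟶ X}

/-- The graph of a morphism in dual bases. -/
lemma cl_graph_eq (hQ : IsProd p q) (hjp : j ≫ p = 𝟙 X) (hjq : j ≫ q = φ)
    {ι : ℕ → Type} [∀ r, Fintype (ι r)] [∀ r, DecidableEq (ι r)]
    (e : (r : ℕ) → Module.Basis (ι r) K ↥(T.gr X (r : ℤ)))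
    (f : (r : ℕ) → ι r → ↥(T.gr X (top X - r)))
    (hef : ∀ r, r ≤ 2 * dim X.obj.left → ∀ i l : ι r,
      T.tr X ((f r l : T.H X) * (e r i : T.H X)) = if i = l then 1 else 0) :
    T.cl Q (sm j (genericPoint ↥X.obj.left)) = ∑ r ∈ Finset.range (2 * dim X.obj.left + 1),
      ∑ i : ι r, T.pull p (T.pull φ (e r i : T.H X)) * T.pull q (f r i : T.H X) := by
  have htop := top_prod T hQ
  refine prod_ext T hQ (m := top X) ?_ ?_ fun s a b ha hb => ?_
  · have h := cl_graph_mem T hjp
    convert h using 2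
    simp only [top] at htop ⊢; omega
  · refine Submodule.sum_mem _ fun r _ => Submodule.sum_mem _ fun i _ => ?_
    have h := mul_mem T (pull_mem' T p (pull_mem' T φ (e r i).2)) (pull_mem' T q (f r i).2)
    convert h using 2
    omega
  · rw [tr_cl_graph_mul T hjp, map_mul (T.pull j), pull_pull, pull_pull, hjp, hjq, pull_id_apply,
      Finset.sum_mul, map_sum]
    simp only [Finset.sum_mul, map_sum]
    by_cases hr : 0 ≤ top X - s ∧ top X - s ≤ top X
    swap
    · have hb0 : b = 0 := eq_zero_of_vanish T hb (by omega)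
      simp [hb0]
    obtain ⟨r₀, hr₀⟩ : ∃ r₀ : ℕ, (r₀ : ℤ) = top X - s := ⟨(top X - s).toNat, by omega⟩
    have hb' : b ∈ T.gr X (r₀ : ℤ) := by rwa [hr₀, show top X - s = top Q - top X - s by omega]
    rw [Finset.sum_eq_single r₀]
    · have hrep : ∀ i, T.tr X ((f r₀ i : T.H X) * b) = (e r₀).repr ⟨b, hb'⟩ i := fun i => by
        conv_lhs => rw [show b = ((⟨b, hb'⟩ : T.gr X (r₀ : ℤ)) : T.H X) from rfl,
          ← (e r₀).sum_repr ⟨b, hb'⟩]
        simp only [Submodule.coe_sum, Submodule.coe_smul, Finset.mul_sum, mul_smul_comm, map_sum,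
          map_smul, smul_eq_mul, hef r₀ (by simp only [top] at hr hr₀; omega)]
        simp
      have hsum : T.pull φ b = ∑ i, (e r₀).repr ⟨b, hb'⟩ i • T.pull φ (e r₀ i : T.H X) := by
        conv_lhs => rw [show b = ((⟨b, hb'⟩ : T.gr X (r₀ : ℤ)) : T.H X) from rfl,
          ← (e r₀).sum_repr ⟨b, hb'⟩]
        simp only [Submodule.coe_sum, Submodule.coe_smul, map_sum, map_smul]
      rw [hsum, Finset.mul_sum, map_sum]
      refine Finset.sum_congr rfl fun i _ => ?_
      rw [tr_kunneth_mul T hQ _ _ (f r₀ i).2 ha, hrep, mul_smul_comm, map_smul, smul_eq_mul,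
        tr_mul_comm T ha (pull_mem' T φ (e r₀ i).2)]
      have : sgn K ((top X - r₀) * s) = sgn K s := by
        rw [show top X - (r₀ : ℤ) = s by omega, sgn_mul_self_int]
      rw [this]
      ring
    · intro r _ hr'
      refine Finset.sum_eq_zero fun i _ => ?_
      rw [tr_kunneth_mul T hQ _ _ (f r i).2 ha,
        tr_mul_eq_zero T (f r i).2 hb' (by omega), mul_zero, mul_zero]
    · intro h
      exact absurd (Finset.mem_range.2 (by simp only [top] at hr hr₀; omega)) h

/-- Lefschetz: the graph against the diagonal. -/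
lemma tr_graph_mul_diag (hQ : IsProd p q) (hjp : j ≫ p = 𝟙 X) (hjq : j ≫ q = φ)
    {d : X ⟶ Q} (hdp : d ≫ p = 𝟙 X) (hdq : d ≫ q = 𝟙 X) :
    T.tr Q (T.cl Q (sm j (genericPoint ↥X.obj.left)) *
        T.cl Q (sm d (genericPoint ↥X.obj.left))) =
      ∑ i ∈ Finset.range (2 * dim X.obj.left + 1), (-1 : K) ^ i *
        LinearMap.trace K _ (T.pullDeg φ (i : ℤ)) := by
  rw [comm_left_even T (even_two_mul _) (T.cl_mem Q _), tr_cl_graph_mul T hdp,
    cl_graph_eq T hQ hjp hjq (fun r => bas T X (r : ℤ)) (fun r l => dualBas T X (r : ℤ) l)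
      (fun r _ i l => by rw [tr_dualBas_mul]; simp [Finsupp.single_apply]), map_sum, map_sum]
  refine Finset.sum_congr rfl fun r _ => ?_
  rw [map_sum, map_sum, trace_eq_sum, ← sgn_natCast, Finset.mul_sum]
  refine Finset.sum_congr rfl fun l _ => ?_
  rw [map_mul (T.pull d)]
  simp only [pull_pull, hdp, hdq, Category.id_comp, pull_id_apply, reassoc_of% hdp]
  rw [tr_mul_comm T (pull_mem' T φ (bas T X (r : ℤ) l).2) (dualBas T X (r : ℤ) l).2]
  rfl

end Graph

end WeilLib
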