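import Mathlib.LinearAlgebra.Charpoly.ToMatrix
import Mathlib.LinearAlgebra.Matrix.Charpoly.Coeff
import Mathlib.LinearAlgebra.Matrix.BilinearForm
import Mathlib.LinearAlgebra.PerfectPairing.Basic
import Mathlib.LinearAlgebra.Dual.Basis
import Mathlib.FieldTheory.RatFunc.AsPolynomial
import Mathlib.LinearAlgebra.Determinant
import Mathlib.Algebra.Polynomial.Reverse

/-!
# Similitudes of a perfect pairing
-/

universe u v w

noncomputable section

open Polynomial

namespace WeilLib

section Matrix

variable {K : Type v} [Field K] {m : Type*} [Fintype m] [DecidableEq m] {A N : Matrix m m K} {c : K}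

lemma det_mul_det_of_transpose_mul (h : A.transpose * N = c • 1) :
    A.det * N.det = c ^ Fintype.card m := by
  have := congrArg Matrix.det h
  simpa [Matrix.det_smul] using this

lemma det_smul_charpolyRev_of_transpose_mul (h : A.transpose * N = c • 1) :
    A.det • N.charpolyRev = (-1 : K[X]) ^ Fintype.card m * A.charpoly.comp (C c * X) := by
  have hN : A.transpose.map C * (1 - (X : K[X]) • N.map C) =
      -(((C c * X : K[X])) • (1 : Matrix m m K[X]) - A.transpose.map C) := by
    rw [mul_sub, mul_one, Matrix.mul_smul, ← Matrix.map_mul, h, neg_sub]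
    congr 1
    ext1 i j
    by_cases hij : i = j <;> simp [hij, Matrix.smul_apply, Polynomial.X_mul_C]
  have hdet := congrArg Matrix.det hN
  rw [Matrix.det_mul, Matrix.det_neg] at hdet
  have hA : (A.transpose.map C).det = C A.det := by
    rw [← Matrix.det_transpose A]
    exact (RingHom.map_det C A.transpose).symm
  have hchar : ((C c * X : K[X]) • (1 : Matrix m m K[X]) - A.transpose.map C).det =
      A.charpoly.comp (C c * X) := by
    rw [← Matrix.charpoly_transpose A, Matrix.charpoly]
    change _ = (compRingHom (C c * X)) _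
    rw [RingHom.map_det]
    congr 1
    ext1 i j
    rcases eq_or_ne i j with hij | hij
    · simp [hij, Matrix.charmatrix_apply, Matrix.smul_apply]
    · simp [hij, hij.symm, Matrix.charmatrix_apply, Matrix.smul_apply]
  rw [hA, hchar] at hdet
  rw [smul_eq_C_mul]
  exact hdet

end Matrix

section Pairing

variable {K : Type v} [Field K] {V : Type u} {W : Type w} [AddCommGroup V] [Module K V]
variable [AddCommGroup W] [Module K W] [FiniteDimensional K V]
variable (P : W →ₗ[K] V →ₗ[K] K) [P.IsPerfPair] (B : W →ₗ[K] W) (A : V →ₗ[K] V) (c : K)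

lemma exists_matrices (h : ∀ w v, P (B w) (A v) = c * P w v) :
    ∃ (b : Module.Basis (Fin (Module.finrank K V)) K V)
      (b' : Module.Basis (Fin (Module.finrank K V)) K W),
      (LinearMap.toMatrix b b A).transpose * LinearMap.toMatrix b' b' B = c • 1 := by
  let b := Module.finBasis K V
  let b' := b.dualBasis.map P.toPerfPair.symm
  have hbb' : ∀ m l, P (b' m) (b l) = if l = m then 1 else 0 := fun m l => by
    simp [b', LinearMap.apply_symm_toPerfPair_self, Finsupp.single_apply]
  have hrepr : ∀ w l, P w (b l) = b'.repr w l := fun w l => by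
    conv_lhs => rw [← b'.sum_repr w]
    rw [map_sum, LinearMap.sum_apply]
    simp only [map_smul, LinearMap.smul_apply, hbb', smul_eq_mul, mul_ite, mul_one, mul_zero,
      Finset.sum_ite_eq, Finset.mem_univ, if_true]
  refine ⟨b, b', ?_⟩
  ext i j
  have hh := h (b' j) (b i)
  rw [← b.sum_repr (A (b i))] at hh
  simp only [map_sum, map_smul, hrepr, smul_eq_mul] at hh
  rw [Matrix.mul_apply]
  simp only [Matrix.transpose_apply, LinearMap.toMatrix_apply, Matrix.smul_apply, Matrix.one_apply,
    smul_eq_mul]
  rw [hh, Module.Basis.repr_self, Finsupp.single_apply]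
  simp [eq_comm]

/-- Determinants of adjoint similitudes. -/
theorem det_mul_det_of_pairing (h : ∀ w v, P (B w) (A v) = c * P w v) :
    LinearMap.det B * LinearMap.det A = c ^ Module.finrank K V := by
  obtain ⟨b, b', hm⟩ := exists_matrices P B A c h
  rw [mul_comm, ← LinearMap.det_toMatrix b, ← LinearMap.det_toMatrix b',
    det_mul_det_of_transpose_mul hm, Fintype.card_fin]

/-- Characteristic polynomials of adjoint similitudes. -/
theorem det_smul_reverse_charpoly_of_pairing [FiniteDimensional K W]
    (h : ∀ w v, P (B w) (A v) = c * P w v) :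
    LinearMap.det A • B.charpoly.reverse =
      (-1 : K[X]) ^ Module.finrank K V * A.charpoly.comp (C c * X) := by
  obtain ⟨b, b', hm⟩ := exists_matrices P B A c h
  rw [← LinearMap.charpoly_toMatrix B b', Matrix.reverse_charpoly, ← LinearMap.det_toMatrix b,
    ← LinearMap.charpoly_toMatrix A b, det_smul_charpolyRev_of_transpose_mul hm, Fintype.card_fin]

/-- A nondegenerate alternating form lives in even dimension. -/
theorem even_finrank_of_skew [CharZero K] (Q : V →ₗ[K] V →ₗ[K] K) [Q.IsPerfPair]
    (hQ : ∀ x y, Q x y = -Q y x) : Even (Module.finrank K V) := by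
  let b := Module.finBasis K V
  let M : Matrix (Fin (Module.finrank K V)) (Fin (Module.finrank K V)) K :=
    fun i j => Q (b i) (b j)
  have hM : M.transpose = -M := by ext i j; exact hQ (b j) (b i)
  have hdet : M.det ≠ 0 := by
    intro h0
    obtain ⟨x, hx, hxM⟩ := Matrix.exists_vecMul_eq_zero_iff.2 h0
    have : Q (∑ i, x i • b i) = 0 := b.ext fun j => by
      simpa [Matrix.vecMul, dotProduct, M, LinearMap.sum_apply] using congrFun hxM j
    have hz := (LinearMap.IsPerfPair.bijective_left Q).1 (this.trans (map_zero Q).symm)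
    exact hx (funext fun i => by
      simpa [b.repr_sum_self, Finsupp.single_apply] using congrArg (fun v => b.repr v i) hz)
  have h := congrArg Matrix.det hM
  rw [Matrix.det_transpose, Matrix.det_neg, Fintype.card_fin] at h
  by_contra hodd
  rw [Nat.not_even_iff_odd] at hodd
  rw [hodd.neg_one_pow, neg_one_mul, eq_neg_iff_add_eq_zero, ← two_mul] at h
  exact hdet ((mul_eq_zero.1 h).resolve_left two_ne_zero)

end Pairing

section RatFunc

variable {K : Type v} [Field K]

/-- The reverse polynomial at `1 / (c t)`. -/
lemma aeval_inv_reverse {p : K[X]} {c : K} (hc : c ≠ 0) :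
    aeval ((RatFunc.X : RatFunc K)⁻¹ * RatFunc.C c⁻¹) p.reverse =
      algebraMap K[X] (RatFunc K) (p.comp (C c * X)) /
        (RatFunc.C c * RatFunc.X) ^ p.natDegree := by
  have hx : (RatFunc.C c * RatFunc.X : RatFunc K) ≠ 0 :=
    mul_ne_zero ((_root_.map_ne_zero _).2 hc) RatFunc.X_ne_zero
  let := invertibleOfNonzero hx
  rw [eq_div_iff (pow_ne_zero _ hx)]
  have e : (RatFunc.X : RatFunc K)⁻¹ * RatFunc.C c⁻¹ = ⅟(RatFunc.C c * RatFunc.X : RatFunc K) := by
    rw [invOf_eq_inv, map_inv₀, mul_inv_rev, mul_comm]
  rw [e, aeval_def, eval₂_reverse_mul_pow, ← aeval_def, ← RatFunc.aeval_X_left_eq_algebraMap,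
    aeval_comp, map_mul, aeval_C, aeval_X, RatFunc.algebraMap_eq_C]

end RatFunc

end WeilLib
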