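import Groth.Agent.WeilLib.Deg
import Groth.Agent.WeilLib.Duality
import Groth.Agent.WeilLib.Zeta

/-!
# The functional equation
-/

universe u v

noncomputable section

open AlgebraicGeometry CategoryTheory WeilCoh Polynomial

namespace WeilLib

section Formal

variable {k : Type u} [Field k] {P : ObjectProperty (Over (Spec (CommRingCat.of k)))}
variable {K : Type v} [Field K]
variable (T : TheoryOn.{u, v, max u v} k P K) {Y : P.FullSubcategory} {F : Y ⟶ Y} {c : K}

lemma pairing_frobenius (hF : ∀ a, T.tr Y (T.pull F a) = c * T.tr Y a) (i j : ℤ)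
    (w : T.gr Y j) (v : T.gr Y i) :
    pairing K (T.gr Y j) (T.gr Y i) (T.tr Y) (T.pullDeg F j w) (T.pullDeg F i v) =
      c * pairing K (T.gr Y j) (T.gr Y i) (T.tr Y) w v := by
  change T.tr Y (T.pull F (w : T.H Y) * T.pull F (v : T.H Y)) =
    c * T.tr Y ((w : T.H Y) * (v : T.H Y))
  rw [← map_mul (T.pull F), hF]

theorem det_compl_mul (hF : ∀ a, T.tr Y (T.pull F a) = c * T.tr Y a) (i : ℤ) :
    LinearMap.det (T.pullDeg F (top Y - i)) * LinearMap.det (T.pullDeg F i) =
      c ^ Module.finrank K ↥(T.gr Y i) := by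
  have := T.duality Y (top Y - i) i (by simp [top])
  exact det_mul_det_of_pairing (pairing K (T.gr Y (top Y - i)) (T.gr Y i) (T.tr Y)) _ _ c
    fun w v => pairing_frobenius T hF i _ w v

theorem det_smul_reverse_compl (hF : ∀ a, T.tr Y (T.pull F a) = c * T.tr Y a) (i : ℤ) :
    LinearMap.det (T.pullDeg F i) • (T.pullDeg F (top Y - i)).charpoly.reverse =
      (-1 : K[X]) ^ Module.finrank K ↥(T.gr Y i) *
        (T.pullDeg F i).charpoly.comp (C c * X) := by
  have := T.duality Y (top Y - i) i (by simp [top])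
  exact det_smul_reverse_charpoly_of_pairing
    (pairing K (T.gr Y (top Y - i)) (T.gr Y i) (T.tr Y)) _ _ c
    fun w v => pairing_frobenius T hF i _ w v

include T in
lemma finrank_compl (i : ℤ) :
    Module.finrank K ↥(T.gr Y (top Y - i)) = Module.finrank K ↥(T.gr Y i) := by
  have := T.duality Y (top Y - i) i (by simp [top])
  exact ((pairing K (T.gr Y (top Y - i)) (T.gr Y i) (T.tr Y)).toPerfPair.finrank_eq).trans
    Subspace.dual_finrank_eq

lemma even_finrank_middle [CharZero K] (hn : Odd (dim Y.obj.left)) :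
    Even (Module.finrank K ↥(T.gr Y (dim Y.obj.left : ℤ))) := by
  have := T.duality Y (dim Y.obj.left : ℤ) (dim Y.obj.left : ℤ) (by ring)
  refine even_finrank_of_skew (pairing K (T.gr Y (dim Y.obj.left : ℤ))
    (T.gr Y (dim Y.obj.left : ℤ)) (T.tr Y)) fun x y => ?_
  change T.tr Y ((x : T.H Y) * (y : T.H Y)) = -T.tr Y ((y : T.H Y) * (x : T.H Y))
  rw [tr_mul_comm T x.2 y.2, sgn_natCast, hn.neg_one_pow, neg_one_mul]

/-- The even part of the Euler characteristic. -/
def bEven (Y : P.FullSubcategory) : ℕ :=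
  ∑ i ∈ Finset.range (dim Y.obj.left + 1), Module.finrank K ↥(T.gr Y ((2 * i : ℕ) : ℤ))

/-- The odd part of the Euler characteristic. -/
def bOdd (Y : P.FullSubcategory) : ℕ :=
  ∑ i ∈ Finset.range (dim Y.obj.left), Module.finrank K ↥(T.gr Y ((2 * i + 1 : ℕ) : ℤ))

lemma euler_eq (Y : P.FullSubcategory) :
    ∑ i ∈ Finset.range (2 * dim Y.obj.left + 1),
        (-1 : ℤ) ^ i * (Module.finrank K ↥(T.gr Y (i : ℤ)) : ℤ) =
      (bEven T Y : ℤ) - (bOdd T Y : ℤ) := by
  rw [sum_range_two_mul_add_one, bEven, bOdd]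
  simp [pow_succ, pow_mul, sub_eq_add_neg]

lemma even_dim_mul_euler [CharZero K] (Y : P.FullSubcategory) :
    Even ((dim Y.obj.left : ℤ) * ((bEven T Y : ℤ) - (bOdd T Y : ℤ))) := by
  rcases Nat.even_or_odd (dim Y.obj.left) with hn | hn
  · exact ((Int.even_coe_nat _).2 hn).mul_right _
  refine Even.mul_left ?_ _
  rw [Int.even_sub, Int.even_coe_nat, Int.even_coe_nat, ← Nat.even_add]
  have h : bEven T Y + bOdd T Y = 2 * (∑ i ∈ Finset.range (dim Y.obj.left),
      Module.finrank K ↥(T.gr Y (i : ℤ))) + Module.finrank K ↥(T.gr Y (dim Y.obj.left : ℤ)) := by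
    rw [bEven, bOdd, ← sum_range_two_mul_add_one (fun i => Module.finrank K ↥(T.gr Y (i : ℤ))),
      two_mul, show dim Y.obj.left + dim Y.obj.left + 1 = dim Y.obj.left + (dim Y.obj.left + 1) by ring,
      Finset.sum_range_add, two_mul, add_assoc]
    congr 1
    rw [Finset.sum_range_succ' _ (dim Y.obj.left), Nat.cast_add, Nat.cast_zero, add_zero]
    congr 1
    conv_rhs => rw [← Finset.sum_range_reflect]
    refine Finset.sum_congr rfl fun x hx => ?_
    rw [Finset.mem_range] at hx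
    rw [← finrank_compl T, show top Y - ((dim Y.obj.left + (x + 1) : ℕ) : ℤ) =
      ((dim Y.obj.left - 1 - x : ℕ) : ℤ) by simp only [top]; omega]
  rw [h]
  exact (even_two_mul _).add (even_finrank_middle T hn)

/-- The scalar relating a factor at `1 / (c t)` to the complementary factor. -/
def fac (F : Y ⟶ Y) (c : K) (i : ℤ) : K :=
  (-1) ^ Module.finrank K ↥(T.gr Y i) * LinearMap.det (T.pullDeg F i) /
    c ^ Module.finrank K ↥(T.gr Y i)

theorem aeval_reverse_charpoly (hF : ∀ a, T.tr Y (T.pull F a) = c * T.tr Y a) (hc : c ≠ 0)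
    (i : ℤ) :
    aeval ((RatFunc.X : RatFunc K)⁻¹ * RatFunc.C c⁻¹) (T.pullDeg F i).charpoly.reverse =
      RatFunc.C (fac T F c i) / RatFunc.X ^ Module.finrank K ↥(T.gr Y i) *
        algebraMap K[X] (RatFunc K) (T.pullDeg F (top Y - i)).charpoly.reverse := by
  rw [aeval_inv_reverse hc, LinearMap.charpoly_natDegree]
  set b := Module.finrank K ↥(T.gr Y i)
  have h := congrArg (algebraMap K[X] (RatFunc K)) (det_smul_reverse_compl T hF i)
  rw [smul_eq_C_mul, map_mul, map_mul, map_pow, map_neg, map_one, RatFunc.algebraMap_C] at h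
  have hsq : ((-1 : RatFunc K) ^ b) * (-1) ^ b = 1 := by
    rw [← mul_pow]; simp
  have hcc : RatFunc.C c ≠ 0 := (_root_.map_ne_zero _).2 hc
  have hXb : (RatFunc.X : RatFunc K) ^ b ≠ 0 := pow_ne_zero _ RatFunc.X_ne_zero
  rw [fac, map_div₀, map_mul, map_pow, map_pow, map_neg, map_one, mul_pow]
  field_simp
  linear_combination (-((-1 : RatFunc K) ^ b) * RatFunc.C c ^ b) * h -
    algebraMap K[X] (RatFunc K) ((T.pullDeg F i).charpoly.comp (C c * X)) * RatFunc.C c ^ b * hsq

/-- The functional equation, formally. -/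
theorem functional_equation [CharZero K] (hF : ∀ a, T.tr Y (T.pull F a) = c * T.tr Y a) {q : K}
    (hq : q ≠ 0) (hqc : c = q ^ dim Y.obj.left) :
    ∃ ε : K, (ε = 1 ∨ ε = -1) ∧
      aeval ((RatFunc.X : RatFunc K)⁻¹ * RatFunc.C c⁻¹)
          (∏ i ∈ Finset.range (dim Y.obj.left),
            (LinearMap.charpoly (T.pullDeg F ((2 * i + 1 : ℕ) : ℤ))).reverse) /
        aeval ((RatFunc.X : RatFunc K)⁻¹ * RatFunc.C c⁻¹)
          (∏ i ∈ Finset.range (dim Y.obj.left + 1),
            (LinearMap.charpoly (T.pullDeg F ((2 * i : ℕ) : ℤ))).reverse) =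
      RatFunc.C ε * RatFunc.C q ^ ((dim Y.obj.left : ℤ) * ((bEven T Y : ℤ) - (bOdd T Y : ℤ)) / 2) *
        (RatFunc.X : RatFunc K) ^ ((bEven T Y : ℤ) - (bOdd T Y : ℤ)) *
        (algebraMap K[X] (RatFunc K)
          (∏ i ∈ Finset.range (dim Y.obj.left),
            (LinearMap.charpoly (T.pullDeg F ((2 * i + 1 : ℕ) : ℤ))).reverse) /
         algebraMap K[X] (RatFunc K)
          (∏ i ∈ Finset.range (dim Y.obj.left + 1),
            (LinearMap.charpoly (T.pullDeg F ((2 * i : ℕ) : ℤ))).reverse)) := by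
  have hc : c ≠ 0 := hqc ▸ pow_ne_zero _ hq
  set n := dim Y.obj.left
  set so := ∏ i ∈ Finset.range n, fac T F c ((2 * i + 1 : ℕ) : ℤ) with hso
  set se := ∏ i ∈ Finset.range (n + 1), fac T F c ((2 * i : ℕ) : ℤ) with hse
  have hrefO : ∀ i ∈ Finset.range n, top Y - ((2 * i + 1 : ℕ) : ℤ) = ((2 * (n - 1 - i) + 1 : ℕ) : ℤ) := by
    intro i hi; rw [Finset.mem_range] at hi; simp only [top]; omega
  have hrefE : ∀ i ∈ Finset.range (n + 1), top Y - ((2 * i : ℕ) : ℤ) = ((2 * (n + 1 - 1 - i) : ℕ) : ℤ) := by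
    intro i hi; rw [Finset.mem_range] at hi; simp only [top]; omega
  -- squares of the scalars
  have hsqO : so ^ 2 * c ^ bOdd T Y = 1 := by
    have e1 : so * so = ∏ i ∈ Finset.range n, fac T F c ((2 * i + 1 : ℕ) : ℤ) *
        fac T F c (top Y - ((2 * i + 1 : ℕ) : ℤ)) := by
      rw [Finset.prod_mul_distrib]
      congr 1
      rw [hso, ← Finset.prod_range_reflect]
      exact Finset.prod_congr rfl fun i hi => by rw [hrefO i hi]
    rw [sq, e1, bOdd, ← Finset.prod_pow_eq_pow_sum, ← Finset.prod_mul_distrib]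
    refine Finset.prod_eq_one fun i _ => ?_
    simp only [fac, finrank_compl T]
    have hd := det_compl_mul T hF ((2 * i + 1 : ℕ) : ℤ)
    have hsq : ((-1 : K) ^ Module.finrank K ↥(T.gr Y ((2 * i + 1 : ℕ) : ℤ))) ^ 2 = 1 := by
      rw [← pow_mul, mul_comm, pow_mul]; simp
    field_simp
    linear_combination hd + LinearMap.det (T.pullDeg F (top Y - ((2 * i + 1 : ℕ) : ℤ))) *
      LinearMap.det (T.pullDeg F ((2 * i + 1 : ℕ) : ℤ)) * hsq
  have hsqE : se ^ 2 * c ^ bEven T Y = 1 := by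
    have e1 : se * se = ∏ i ∈ Finset.range (n + 1), fac T F c ((2 * i : ℕ) : ℤ) *
        fac T F c (top Y - ((2 * i : ℕ) : ℤ)) := by
      rw [Finset.prod_mul_distrib]
      congr 1
      rw [hse, ← Finset.prod_range_reflect]
      exact Finset.prod_congr rfl fun i hi => by rw [hrefE i hi]
    rw [sq, e1, bEven, ← Finset.prod_pow_eq_pow_sum, ← Finset.prod_mul_distrib]
    refine Finset.prod_eq_one fun i _ => ?_
    simp only [fac, finrank_compl T]
    have hd := det_compl_mul T hF ((2 * i : ℕ) : ℤ)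
    have hsq : ((-1 : K) ^ Module.finrank K ↥(T.gr Y ((2 * i : ℕ) : ℤ))) ^ 2 = 1 := by
      rw [← pow_mul, mul_comm, pow_mul]; simp
    field_simp
    linear_combination hd + LinearMap.det (T.pullDeg F (top Y - ((2 * i : ℕ) : ℤ))) *
      LinearMap.det (T.pullDeg F ((2 * i : ℕ) : ℤ)) * hsq
  have hse0 : se ≠ 0 := fun h => by rw [h] at hsqE; simp at hsqE
  set E : ℤ := (bEven T Y : ℤ) - (bOdd T Y : ℤ) with hE
  obtain ⟨r, hr⟩ := even_dim_mul_euler T Y
  have hh : (n : ℤ) * E / 2 = r := by rw [hr]; omega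
  have hS : (so / se) ^ 2 = (q ^ r) ^ 2 := by
    have hce : c ^ E = (q ^ r) ^ 2 := by
      rw [hqc, ← zpow_natCast q n, ← zpow_mul, ← zpow_natCast (q ^ r), ← zpow_mul]
      congr 1
      push_cast
      rw [hr]
      ring
    have hp : c ^ E = c ^ bEven T Y / c ^ bOdd T Y := by
      rw [hE, zpow_sub₀ hc, zpow_natCast, zpow_natCast]
    rw [← hce, hp, div_pow, div_eq_div_iff (pow_ne_zero _ hse0) (pow_ne_zero _ hc)]
    linear_combination hsqO - hsqE
  refine ⟨so / se / q ^ r, ?_, ?_⟩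
  · refine sq_eq_one_iff.1 ?_
    rw [div_pow, hS, div_self (pow_ne_zero _ (zpow_ne_zero _ hq))]
  have eO : aeval ((RatFunc.X : RatFunc K)⁻¹ * RatFunc.C c⁻¹)
      (∏ i ∈ Finset.range n, (LinearMap.charpoly (T.pullDeg F ((2 * i + 1 : ℕ) : ℤ))).reverse) =
      RatFunc.C so / RatFunc.X ^ bOdd T Y * algebraMap K[X] (RatFunc K)
        (∏ i ∈ Finset.range n, (LinearMap.charpoly (T.pullDeg F ((2 * i + 1 : ℕ) : ℤ))).reverse) := by
    rw [map_prod, Finset.prod_congr rfl fun i _ => aeval_reverse_charpoly T hF hc _,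
      Finset.prod_mul_distrib, Finset.prod_div_distrib, Finset.prod_pow_eq_pow_sum, hso, map_prod,
      map_prod, bOdd]
    congr 1
    rw [← Finset.prod_range_reflect (fun i => algebraMap K[X] (RatFunc K)
      (LinearMap.charpoly (T.pullDeg F ((2 * i + 1 : ℕ) : ℤ))).reverse) n]
    exact Finset.prod_congr rfl fun i hi => by rw [hrefO i hi]
  have eE : aeval ((RatFunc.X : RatFunc K)⁻¹ * RatFunc.C c⁻¹)
      (∏ i ∈ Finset.range (n + 1), (LinearMap.charpoly (T.pullDeg F ((2 * i : ℕ) : ℤ))).reverse) =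
      RatFunc.C se / RatFunc.X ^ bEven T Y * algebraMap K[X] (RatFunc K)
        (∏ i ∈ Finset.range (n + 1), (LinearMap.charpoly (T.pullDeg F ((2 * i : ℕ) : ℤ))).reverse) := by
    rw [map_prod, Finset.prod_congr rfl fun i _ => aeval_reverse_charpoly T hF hc _,
      Finset.prod_mul_distrib, Finset.prod_div_distrib, Finset.prod_pow_eq_pow_sum, hse, map_prod,
      map_prod, bEven]
    congr 1
    rw [← Finset.prod_range_reflect (fun i => algebraMap K[X] (RatFunc K)
      (LinearMap.charpoly (T.pullDeg F ((2 * i : ℕ) : ℤ))).reverse) (n + 1)]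
    exact Finset.prod_congr rfl fun i hi => by rw [hrefE i hi]
  rw [eO, eE, hh, hE, zpow_sub₀ RatFunc.X_ne_zero, zpow_natCast, zpow_natCast, map_div₀, map_div₀,
    map_zpow₀]
  have hqr : (RatFunc.C q : RatFunc K) ^ r ≠ 0 := zpow_ne_zero _ ((_root_.map_ne_zero _).2 hq)
  rw [div_mul_cancel₀ _ hqr, mul_div_mul_comm]
  congr 1
  have h1 : (RatFunc.X : RatFunc K) ^ bEven T Y ≠ 0 := pow_ne_zero _ RatFunc.X_ne_zero
  have h2 : (RatFunc.X : RatFunc K) ^ bOdd T Y ≠ 0 := pow_ne_zero _ RatFunc.X_ne_zero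
  have h3 : (RatFunc.C se : RatFunc K) ≠ 0 := (_root_.map_ne_zero _).2 hse0
  field_simp

end Formal

end WeilLib
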