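import Groth.Agent.WeilLib.Trace
import Mathlib.RingTheory.Coprime.Lemmas
import Mathlib.LinearAlgebra.Charpoly.Basic

/-!
# Correspondences: bijectivity, symmetry, powers of an endomorphism
-/

universe u v w

noncomputable section

open AlgebraicGeometry CategoryTheory WeilCoh

namespace WeilLib

section Lin

variable {k : Type u} [Field k] {P : ObjectProperty (Over (Spec (CommRingCat.of k)))}
variable {K : Type v} [Field K] (T : TheoryOn.{u, v, w} k P K)
variable {X Y Q : P.FullSubcategory} (p : Q ⟶ X) (q : Q ⟶ Y)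

/-- `act`, linear in the class. -/
def actLin (i s : ℤ) : T.gr Q s →ₗ[K] T.gr X i →ₗ[K] T.gr Y (i + s + top Y - top Q) where
  toFun z := act T p q z
  map_add' z z' := LinearMap.ext fun x => Subtype.ext (act_add T p q z z' x)
  map_smul' c z := LinearMap.ext fun x => Subtype.ext (act_smul T p q c z x)

lemma actLin_apply (i s : ℤ) (z : T.gr Q s) (x : T.gr X i) :
    actLin T p q i s z x = act T p q z x := rfl

lemma act_congr {i i' s : ℤ} (h : i = i') (z : T.gr Q s) (x : T.gr X i) (x' : T.gr X i')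
    (hx : (x : T.H X) = x') : (act T p q z x : T.H Y) = (act T p q z x' : T.H Y) := by
  subst h
  rw [Subtype.ext hx]

variable {p q}

lemma act_injective (hQ : IsProd p q) {s : ℤ} {z z' : T.gr Q s}
    (h : ∀ (i : ℤ) (x : T.gr X i), act T p q z x = act T p q z' x) : z = z' := by
  refine Subtype.ext (prod_ext T hQ z.2 z'.2 fun i a b ha _ => ?_)
  have key : ∀ w : T.gr Q s, T.tr Q ((w : T.H Q) * (T.pull p a * T.pull q b)) =
      sgn K (s * i) * T.tr Y ((act T p q w ⟨a, ha⟩ : T.H Y) * b) := fun w => by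
    rw [tr_act_mul, ← mul_assoc, comm T w.2 (pull_mem' T p ha), smul_mul_assoc, map_smul,
      smul_eq_mul]
  rw [key, key, h]

lemma act_surjective (hQ : IsProd p q) {s : ℤ}
    (L : (i : ℤ) → T.gr X i →ₗ[K] T.gr Y (i + s + top Y - top Q)) :
    ∃ z : T.gr Q s, ∀ i, act T p q z = L i := by
  have htop := top_prod T hQ
  have hmem : ∀ (i : ℤ) (l : Fin (Module.finrank K (T.gr X i))),
      T.pull p (dualBas T X i l : T.H X) * T.pull q (L i (bas T X i l) : T.H Y) ∈ T.gr Q s := by
    intro i l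
    have h := mul_mem T (pull_mem' T p (dualBas T X i l).2)
      (pull_mem' T q (L i (bas T X i l)).2)
    convert h using 2
    omega
  refine ⟨∑ i ∈ Finset.range (2 * dim X.obj.left + 1), sgn K (i : ℤ) •
    ∑ l, (⟨_, hmem (i : ℤ) l⟩ : T.gr Q s), fun i => LinearMap.ext fun x => Subtype.ext ?_⟩
  rw [← actLin_apply]
  simp only [map_sum, map_smul, LinearMap.sum_apply, LinearMap.smul_apply, Submodule.coe_sum,
    Submodule.coe_smul, actLin_apply]
  have hterm : ∀ (r : ℤ) l, (act T p q (⟨_, hmem r l⟩ : T.gr Q s) x : T.H Y) =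
      T.tr X ((x : T.H X) * (dualBas T X r l : T.H X)) • (L r (bas T X r l) : T.H Y) := fun r l =>
    act_pure T hQ (dualBas T X r l).2 (by
      have := (L r (bas T X r l)).2
      convert this using 2
      omega) _ rfl x
  simp only [hterm]
  by_cases hi : 0 ≤ i ∧ i ≤ top X
  · obtain ⟨i₀, rfl⟩ : ∃ i₀ : ℕ, i = (i₀ : ℤ) := ⟨i.toNat, by omega⟩
    rw [Finset.sum_eq_single i₀]
    · conv_rhs => rw [← (bas T X (i₀ : ℤ)).sum_repr x]
      simp only [map_sum, map_smul, Submodule.coe_sum, Submodule.coe_smul, Finset.smul_sum]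
      refine Finset.sum_congr rfl fun l _ => ?_
      rw [tr_mul_comm T x.2 (dualBas T X (i₀ : ℤ) l).2, tr_dualBas_mul, smul_smul, ← mul_assoc,
        sgn_mul_self, one_mul]
    · intro r _ hr
      rw [Finset.sum_eq_zero, smul_zero]
      intro l _
      rw [tr_mul_eq_zero T x.2 (dualBas T X (r : ℤ) l).2 (by omega), zero_smul]
    · intro h
      exact absurd (Finset.mem_range.2 (by simp only [top] at hi; omega)) h
  · have hx : x = 0 := Subtype.ext (eq_zero_of_vanish T x.2 (by omega))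
    subst hx
    simp

end Lin

section Var

variable {k : Type u} [Field k] [IsAlgClosed k] {K : Type v} [Field K] [CharZero K]
variable (T : WeilCoh.Theory k K)

lemma hom_ext_prod {W X Y Q : Var k} {p : Q ⟶ X} {q : Q ⟶ Y} (hQ : IsProd p q) {a b : W ⟶ Q}
    (h₁ : a ≫ p = b ≫ p) (h₂ : a ≫ q = b ≫ q) : a = b := by
  refine ObjectProperty.hom_ext _ (Over.OverMorphism.ext ?_)
  exact hQ.hom_ext (congrArg (fun f : W ⟶ X => sm f) h₁) (congrArg (fun f : W ⟶ Y => sm f) h₂)

lemma exists_lift_prod {W X Y Q : Var k} {p : Q ⟶ X} {q : Q ⟶ Y} (hQ : IsProd p q) (a : W ⟶ X)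
    (b : W ⟶ Y) : ∃ j : W ⟶ Q, j ≫ p = a ∧ j ≫ q = b := by
  have hw : sm a ≫ X.obj.hom = sm b ≫ Y.obj.hom := (Over.w a.hom).trans (Over.w b.hom).symm
  refine ⟨ObjectProperty.homMk (Over.homMk (hQ.lift (sm a) (sm b) hw) ?_), ?_, ?_⟩
  · have hp : sm p ≫ X.obj.hom = Q.obj.hom := Over.w p.hom
    rw [← hp]
    have hl := hQ.lift_fst (sm a) (sm b) hw
    refine (Category.assoc _ _ _).symm.trans ?_
    exact (congrArg (fun m => m ≫ X.obj.hom) hl).trans (Over.w a.hom)
  · exact ObjectProperty.hom_ext _ (Over.OverMorphism.ext (hQ.lift_fst _ _ hw))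
  · exact ObjectProperty.hom_ext _ (Over.OverMorphism.ext (hQ.lift_snd _ _ hw))

omit [IsAlgClosed k] in
lemma preimMult_of_isIso {X Y : Var k} (f : X ⟶ Y) [IsIso (sm f)] (ξ : Y.obj.left)
    (w₀ : X.obj.left) (hw : sm f w₀ = ξ) (h : sm f w₀ ∈ closure ({ξ} : Set Y.obj.left)) :
    preimMult (sm f) ξ w₀ h = 1 := by
  subst hw
  unfold preimMult
  have hker : RingHom.ker (Cyc.specMap (sm f w₀) (sm f w₀) (specializes_iff_mem_closure.mpr h)) =
      IsLocalRing.maximalIdeal (Y.obj.left.presheaf.stalk (sm f w₀)) := by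
    have : Cyc.specMap (sm f w₀) (sm f w₀) (specializes_iff_mem_closure.mpr h) = (Y.obj.left.residue (sm f w₀)).hom := by
      simp [Cyc.specMap]
    rw [this]
    exact IsLocalRing.ker_residue
  rw [hker]
  let e := (asIso ((sm f).stalkMap w₀)).commRingCatIsoToRingEquiv
  have hmap : Ideal.map ((sm f).stalkMap w₀).hom
      (IsLocalRing.maximalIdeal (Y.obj.left.presheaf.stalk (sm f w₀))) =
      IsLocalRing.maximalIdeal (X.obj.left.presheaf.stalk w₀) :=
    IsLocalRing.eq_maximalIdeal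
      (Ideal.map_isMaximal_of_equiv e (p := IsLocalRing.maximalIdeal _))
  rw [hmap]
  have : IsSimpleModule (X.obj.left.presheaf.stalk w₀) (X.obj.left.presheaf.stalk w₀ ⧸
      IsLocalRing.maximalIdeal (X.obj.left.presheaf.stalk w₀)) :=
    isSimpleModule_iff_isCoatom.2 (IsLocalRing.maximalIdeal.isMaximal _).out
  rw [Module.length_eq_one, ENat.toNat_one]


/-- Pull-back along an automorphism sends classes to classes. -/
lemma pull_cl_of_isIso {X Y : Var k} (f : X ⟶ Y) [IsIso (sm f)] (ξ : Y.obj.left) :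
    T.pull f (T.cl Y ξ) = T.cl X ((inv (sm f)) ξ) := by
  set w₀ : X.obj.left := (inv (sm f)) ξ
  have hw₀ : sm f w₀ = ξ := by
    change (inv (sm f) ≫ sm f) ξ = ξ
    rw [IsIso.inv_hom_id]; rfl
  set F := (sm f) ⁻¹' closure ({ξ} : Set Y.obj.left)
  have hspec : ∀ w, w ∈ F ↔ w₀ ⤳ w := by
    intro w
    simp only [F, Set.mem_preimage, ← specializes_iff_mem_closure]
    constructor
    · intro h
      have h' := h.map (inv (sm f)).continuous
      have e : (inv (sm f)) (sm f w) = w := by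
        change (sm f ≫ inv (sm f)) w = w
        rw [IsIso.hom_inv_id]; rfl
      rwa [e] at h'
    · intro h
      exact hw₀ ▸ h.map (sm f).continuous
  have hcomp : ∀ w, IsCompPt F w ↔ w = w₀ := by
    intro w
    constructor
    · intro hw
      exact (hw.2 w₀ ((hspec _).2 specializes_rfl) ((hspec _).1 hw.1)).symm
    · rintro rfl
      exact ⟨(hspec _).2 specializes_rfl, fun w hw h => (h.antisymm ((hspec _).1 hw)).eq⟩
  have hdim : dim X.obj.left = dim Y.obj.left :=
    natDim_homeomorph (sm f).homeomorph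
  have hflat : Flat (sm f ∣_ ⊤) := by
    have : Flat (sm f) := inferInstance
    infer_instance
  have h := T.cl_pull f ξ (fun w hw => by
      rw [(hcomp w).1 hw, ← pdim_map_of_isClosedImmersion (sm f), hw₀, hdim]; ring)
    (Or.inl ⟨⊤, Set.subset_univ _, hflat⟩)
  let w₁ : {w : X.obj.left // IsCompPt F w} := ⟨w₀, (hcomp w₀).2 rfl⟩
  rw [finsum_eq_single _ w₁ (fun w hw => absurd (Subtype.ext ((hcomp w.1).1 w.2)) hw)] at h
  suffices hm : preimMult (sm f) ξ w₀ w₁.2.1 = 1 by
    rw [show preimMult (sm f) ξ w₁.1 w₁.2.1 = 1 from hm, Nat.cast_one, one_smul] at h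
    exact h
  exact preimMult_of_isIso f ξ w₀ hw₀ _

lemma pull_mem_span_cl {X Y : Var k} (f : X ⟶ Y) [IsIso (sm f)] {v : T.H Y}
    (hv : v ∈ Submodule.span K (Set.range (T.cl Y))) :
    T.pull f v ∈ Submodule.span K (Set.range (T.cl X)) := by
  induction hv using Submodule.span_induction with
  | mem z hz =>
    obtain ⟨ξ, rfl⟩ := hz
    exact Submodule.subset_span ⟨_, (pull_cl_of_isIso T f ξ).symm⟩
  | zero => simp
  | add a b _ _ ha hb => rw [map_add]; exact Submodule.add_mem _ ha hb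
  | smul c a _ ha => rw [map_smul]; exact Submodule.smul_mem _ c ha

/-- Iterates of an endomorphism. -/
def iter {X : Var k} (F : X ⟶ X) : ℕ → (X ⟶ X)
  | 0 => 𝟙 X
  | m + 1 => iter F m ≫ F

lemma pull_iter {X : Var k} (F : X ⟶ X) (m : ℕ) {i : ℤ} (x : T.gr X i) :
    T.pull (iter F m) (x : T.H X) = (((T.pullDeg F i) ^ m) x : T.H X) := by
  induction m generalizing x with
  | zero => simp [iter, pull_id_apply]
  | succ m ih =>
    rw [iter, ← pull_pull, pow_succ, Module.End.mul_apply, ← ih]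
    rfl

lemma pullDeg_iter {X : Var k} (F : X ⟶ X) (m : ℕ) (i : ℤ) :
    T.pullDeg (iter F m) i = (T.pullDeg F i) ^ m :=
  LinearMap.ext fun x => Subtype.ext (pull_iter T F m x)

/-- The transposed graph acts as pull-back. -/
lemma act_graph {X Q : Var k} [IrreducibleSpace ↥X.obj.left] {p q : Q ⟶ X} {j : X ⟶ Q}
    {φ : X ⟶ X} (hQ : IsProd p q) (hjp : j ≫ p = φ) (hjq : j ≫ q = 𝟙 X)
    (z : T.gr Q (top X)) (hz : (z : T.H Q) = T.cl Q (sm j (genericPoint ↥X.obj.left))) {i : ℤ}
    (x : T.gr X i) : (act T p q z x : T.H X) = T.pull φ (x : T.H X) := by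
  have htop := top_prod T hQ
  refine act_eq T p q z x ?_ fun y _ => ?_
  · convert pull_mem' T φ x.2 using 2
    omega
  · rw [hz, ← comm_left_even T (even_two_mul _) (T.cl_mem Q _) (T.pull p (x : T.H X)),
      mul_assoc, tr_cl_graph_mul T hjq, map_mul (T.pull j), pull_pull, pull_pull, hjp, hjq,
      pull_id_apply]

end Var

end WeilLib
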