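import Groth.Prelude.Def_WeilCoh
import Mathlib.LinearAlgebra.FiniteDimensional.Basic
import Mathlib.Algebra.GradedMonoid
import Mathlib.Tactic.LinearCombination
import Mathlib.Tactic.Ring

/-!
# Formal consequences of the axioms of a Weil cohomology theory
-/

universe u v w

noncomputable section

open AlgebraicGeometry CategoryTheory TensorProduct WeilCoh

namespace WeilLib

section Sign

variable (K : Type v) [Field K]

/-- The Koszul sign, as an integer power of `-1`. -/
def sgn (i : ℤ) : K := (-1 : K) ^ i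

lemma sgn_zero : sgn K 0 = 1 := zpow_zero _

lemma sgn_add (i j : ℤ) : sgn K (i + j) = sgn K i * sgn K j :=
  zpow_add₀ (neg_ne_zero.2 one_ne_zero) i j

lemma sgn_natCast (n : ℕ) : sgn K (n : ℤ) = (-1 : K) ^ n := zpow_natCast _ _

/-- An even sign is trivial. -/
lemma sgn_even {i : ℤ} (h : Even i) : sgn K i = 1 := h.neg_one_zpow

lemma sgn_mul_self (i : ℤ) : sgn K i * sgn K i = 1 := by
  exact (sgn_add K i i).symm.trans (sgn_even K ⟨i, rfl⟩)

lemma sgn_eq_of_even_sub {i j : ℤ} (h : Even (i - j)) : sgn K i = sgn K j := by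
  rw [show i = (i - j) + j by ring, sgn_add, sgn_even K h, one_mul]

lemma sgn_neg (i : ℤ) : sgn K (-i) = sgn K i :=
  sgn_eq_of_even_sub K ⟨-i, by ring⟩

lemma neg_one_pow_natAbs (i : ℤ) : (-1 : K) ^ i.natAbs = sgn K i := by
  rcases Int.natAbs_eq i with h | h
  · conv_rhs => rw [h, sgn_natCast]
  · conv_rhs => rw [h, sgn_neg, sgn_natCast]

lemma neg_one_pow_natAbs_mul (i j : ℤ) : (-1 : K) ^ (i.natAbs * j.natAbs) = sgn K (i * j) := by
  rw [← Int.natAbs_mul, neg_one_pow_natAbs]

lemma sgn_mul_self_int (i : ℤ) : sgn K (i * i) = sgn K i :=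
  sgn_eq_of_even_sub K (by
    rw [show i * i - i = (i - 1) * i by ring]
    simpa using Int.even_mul_succ_self (i - 1))

end Sign

variable {k : Type u} [Field k] {P : ObjectProperty (Over (Spec (CommRingCat.of k)))}
variable {K : Type v} [Field K] (T : TheoryOn.{u, v, w} k P K)

/-- Twice the dimension: the degree of the trace. -/
def top (X : P.FullSubcategory) : ℤ := 2 * (dim X.obj.left : ℤ)

lemma top_def (X : P.FullSubcategory) : top X = 2 * (dim X.obj.left : ℤ) := rfl

lemma even_top (X : P.FullSubcategory) : Even (top X) := even_two_mul _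

lemma gr_iSup (X : P.FullSubcategory) : iSup (T.gr X) = ⊤ :=
  (T.decomp X).submodule_iSup_eq_top

/-- Linear maps out of the total cohomology agree as soon as they agree on homogeneous classes. -/
lemma hom_ext {X : P.FullSubcategory} {M : Type*} [AddCommMonoid M] [Module K M]
    {f g : T.H X →ₗ[K] M} (h : ∀ (i : ℤ), ∀ a ∈ T.gr X i, f a = g a) : f = g := by
  refine LinearMap.ext fun x => ?_
  have hx : x ∈ iSup (T.gr X) := by rw [gr_iSup]; exact Submodule.mem_top
  induction hx using Submodule.iSup_induction' with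
  | mem i a ha => exact h i a ha
  | zero => simp
  | add a b _ _ ha hb => rw [map_add, map_add, ha, hb]

lemma eq_zero_of_vanish {X : P.FullSubcategory} {i : ℤ} {a : T.H X} (ha : a ∈ T.gr X i)
    (hi : i < 0 ∨ top X < i) : a = 0 := by
  have := T.vanish X i hi
  rwa [this, Submodule.mem_bot] at ha

lemma mul_mem {X : P.FullSubcategory} {i j : ℤ} {a b : T.H X} (ha : a ∈ T.gr X i)
    (hb : b ∈ T.gr X j) : a * b ∈ T.gr X (i + j) :=
  (T.gradedMul X).mul_mem ha hb

lemma one_mem (X : P.FullSubcategory) : (1 : T.H X) ∈ T.gr X 0 := (T.gradedMul X).one_mem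

lemma comm {X : P.FullSubcategory} {i j : ℤ} {a b : T.H X} (ha : a ∈ T.gr X i)
    (hb : b ∈ T.gr X j) : a * b = sgn K (i * j) • (b * a) := by
  rw [T.gradedComm X i j a b ha hb, neg_one_pow_natAbs_mul]

lemma comm_left_even {X : P.FullSubcategory} {i : ℤ} (hi : Even i) {a : T.H X}
    (ha : a ∈ T.gr X i) (b : T.H X) : a * b = b * a := by
  refine LinearMap.congr_fun (hom_ext T (f := LinearMap.mulLeft K a)
    (g := LinearMap.mulRight K a) fun j c hc => ?_) b
  simp only [LinearMap.mulLeft_apply, LinearMap.mulRight_apply]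
  rw [comm T ha hc, sgn_even K (hi.mul_right j), one_smul]

lemma tr_of_mem {X : P.FullSubcategory} {i : ℤ} {a : T.H X} (ha : a ∈ T.gr X i)
    (hi : i ≠ top X) : T.tr X a = 0 :=
  T.tr_vanish X i a ha hi

lemma tr_mul_eq_zero {X : P.FullSubcategory} {i j : ℤ} {a b : T.H X} (ha : a ∈ T.gr X i)
    (hb : b ∈ T.gr X j) (h : i + j ≠ top X) : T.tr X (a * b) = 0 :=
  tr_of_mem T (mul_mem T ha hb) h

/-- Graded symmetry of the trace pairing. -/
lemma tr_mul_comm {X : P.FullSubcategory} {i j : ℤ} {a b : T.H X} (ha : a ∈ T.gr X i)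
    (hb : b ∈ T.gr X j) : T.tr X (a * b) = sgn K i * T.tr X (b * a) := by
  by_cases h : i + j = top X
  · rw [comm T ha hb, map_smul, smul_eq_mul]
    congr 1
    rw [show j = top X - i by omega, ← sgn_mul_self_int K i]
    refine sgn_eq_of_even_sub K ?_
    rw [show i * (top X - i) - i * i = (top X) * i + (-2) * (i * i) by ring]
    exact ((even_top X).mul_right i).add (Even.mul_right ⟨-1, by norm_num⟩ _)
  · rw [tr_mul_eq_zero T ha hb h, tr_mul_eq_zero T hb ha (by omega), mul_zero]

lemma exists_top (X : P.FullSubcategory) :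
    ∃ t ∈ T.gr X (top X), T.tr X t = 1 := by
  obtain ⟨⟨t, ht⟩, h⟩ := (T.tr_bijective X).2 1
  exact ⟨t, ht, h⟩

/-- A choice of class of trace one in top degree. -/
def topCl (X : P.FullSubcategory) : T.H X := (exists_top T X).choose

lemma topCl_mem (X : P.FullSubcategory) : topCl T X ∈ T.gr X (top X) :=
  (exists_top T X).choose_spec.1

lemma tr_topCl (X : P.FullSubcategory) : T.tr X (topCl T X) = 1 :=
  (exists_top T X).choose_spec.2

lemma top_ext {X : P.FullSubcategory} {a b : T.H X} (ha : a ∈ T.gr X (top X))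
    (hb : b ∈ T.gr X (top X)) (h : T.tr X a = T.tr X b) : a = b :=
  congrArg Subtype.val ((T.tr_bijective X).1 (a₁ := ⟨a, ha⟩) (a₂ := ⟨b, hb⟩) h)

/-- Poincaré duality, as an extensionality principle. -/
lemma gr_ext {X : P.FullSubcategory} {i : ℤ} {a b : T.H X} (ha : a ∈ T.gr X i)
    (hb : b ∈ T.gr X i) (h : ∀ c ∈ T.gr X (top X - i), T.tr X (a * c) = T.tr X (b * c)) :
    a = b := by
  have := T.duality X i (top X - i) (by simp [top])
  refine congrArg Subtype.val ((LinearMap.IsPerfPair.bijective_left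
    (pairing K (T.gr X i) (T.gr X (top X - i)) (T.tr X))).1
      (a₁ := ⟨a, ha⟩) (a₂ := ⟨b, hb⟩) ?_)
  ext ⟨c, hc⟩
  exact h c hc

/-- Poincaré duality, extensionality in the right argument. -/
lemma gr_ext' {X : P.FullSubcategory} {i : ℤ} {a b : T.H X} (ha : a ∈ T.gr X i)
    (hb : b ∈ T.gr X i) (h : ∀ c ∈ T.gr X (top X - i), T.tr X (c * a) = T.tr X (c * b)) :
    a = b :=
  gr_ext T ha hb fun c hc => by rw [tr_mul_comm T ha hc, tr_mul_comm T hb hc, h c hc]

lemma eq_smul_one_of_mem_zero {X : P.FullSubcategory} {a : T.H X} (ha : a ∈ T.gr X 0) :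
    a = T.tr X (a * topCl T X) • (1 : T.H X) := by
  refine gr_ext T ha (Submodule.smul_mem _ _ (one_mem T X)) fun c hc => ?_
  rw [sub_zero] at hc
  have hc' : c = T.tr X c • topCl T X :=
    top_ext T hc (Submodule.smul_mem _ _ (topCl_mem T X)) (by simp [tr_topCl])
  rw [hc']
  simp only [mul_smul_comm, smul_mul_assoc, map_smul, smul_eq_mul, one_mul, tr_topCl]
  ring

section Push

variable {X Y : P.FullSubcategory} (f : X ⟶ Y)

lemma pull_mem' {i : ℤ} {a : T.H Y} (ha : a ∈ T.gr Y i) : T.pull f a ∈ T.gr X i :=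
  T.pull_mem f i a ha

lemma push_mem (i : ℤ) (a : T.gr X i) :
    (T.push f i a : T.H Y) ∈ T.gr Y (i + top Y - top X) :=
  (T.push f i a).2

/-- The defining property of push-forward, against an arbitrary class. -/
lemma tr_push_mul (i : ℤ) (a : T.gr X i) (b : T.H Y) :
    T.tr Y ((T.push f i a : T.H Y) * b) = T.tr X ((a : T.H X) * T.pull f b) := by
  refine LinearMap.congr_fun (hom_ext T
    (f := (T.tr Y) ∘ₗ LinearMap.mulLeft K (T.push f i a : T.H Y))
    (g := (T.tr X) ∘ₗ LinearMap.mulLeft K (a : T.H X) ∘ₗ (T.pull f).toLinearMap)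
    fun j c hc => ?_) b
  change T.tr Y ((T.push f i a : T.H Y) * c) = T.tr X ((a : T.H X) * T.pull f c)
  by_cases hj : j = top X - i
  · subst hj
    have := T.duality Y (i + 2 * (dim Y.obj.left : ℤ) - 2 * (dim X.obj.left : ℤ))
      (2 * (dim X.obj.left : ℤ) - i) (by omega)
    have e := LinearMap.apply_symm_toPerfPair_self
      (p := pairing K (T.gr Y (i + 2 * (dim Y.obj.left : ℤ) - 2 * (dim X.obj.left : ℤ)))
        (T.gr Y (2 * (dim X.obj.left : ℤ) - i)) (T.tr Y))
      (T.pushFunctional f i a)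
    exact LinearMap.congr_fun e ⟨c, hc⟩
  · rw [tr_mul_eq_zero T (push_mem T f i a) hc (by omega),
      tr_mul_eq_zero T a.2 (pull_mem' T f hc) (by omega)]

/-- Characterisation of push-forward. -/
lemma push_eq (i : ℤ) (a : T.gr X i) {c : T.H Y} (hc : c ∈ T.gr Y (i + top Y - top X))
    (h : ∀ b ∈ T.gr Y (top X - i), T.tr Y (c * b) = T.tr X ((a : T.H X) * T.pull f b)) :
    (T.push f i a : T.H Y) = c := by
  refine gr_ext T (push_mem T f i a) hc fun b hb => ?_
  rw [tr_push_mul, h b (by rwa [show top Y - (i + top Y - top X) = top X - i by ring] at hb)]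

end Push

section Kunneth

variable {X Y Q : P.FullSubcategory} {p : Q ⟶ X} {q : Q ⟶ Y}

include T in
lemma top_prod (hQ : IsProd p q) : top Q = top X + top Y := by
  by_contra h
  have h1 := T.tr_prod p q hQ _ _ (topCl_mem T X) (topCl_mem T Y)
  rw [tr_topCl, tr_topCl, one_mul, tr_mul_eq_zero T (pull_mem' T p (topCl_mem T X))
    (pull_mem' T q (topCl_mem T Y)) (Ne.symm h)] at h1
  exact zero_ne_one h1

include T in
lemma dim_prod (hQ : IsProd p q) : dim Q.obj.left = dim X.obj.left + dim Y.obj.left := by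
  have := top_prod T hQ
  simp only [top] at this
  omega

/-- The trace of a product class. -/
lemma tr_kunneth (hQ : IsProd p q) (a : T.H X) (b : T.H Y) :
    T.tr Q (T.pull p a * T.pull q b) = T.tr X a * T.tr Y b := by
  refine LinearMap.congr_fun (hom_ext T
    (f := T.tr Q ∘ₗ LinearMap.mulRight K (T.pull q b) ∘ₗ (T.pull p).toLinearMap)
    (g := (T.tr Y b) • T.tr X) fun i a' ha => ?_) a |>.trans (mul_comm _ _)
  refine (LinearMap.congr_fun (hom_ext T
    (f := T.tr Q ∘ₗ LinearMap.mulLeft K (T.pull p a') ∘ₗ (T.pull q).toLinearMap)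
    (g := (T.tr X a') • T.tr Y) fun j b' hb => ?_) b).trans (mul_comm _ _)
  change T.tr Q (T.pull p a' * T.pull q b') = T.tr X a' * T.tr Y b'
  by_cases h : i = top X ∧ j = top Y
  · obtain ⟨rfl, rfl⟩ := h
    exact T.tr_prod p q hQ a' b' ha hb
  · have rhs : T.tr X a' * T.tr Y b' = 0 := by
      rcases not_and_or.1 h with h | h
      · rw [tr_of_mem T ha h, zero_mul]
      · rw [tr_of_mem T hb h, mul_zero]
    rw [rhs]
    by_cases hij : i + j = top Q
    · rw [top_prod T hQ] at hij
      rcases not_and_or.1 h with h | h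
      · rcases lt_or_gt_of_ne h with h | h
        · rw [eq_zero_of_vanish T hb (Or.inr (by omega))]; simp
        · rw [eq_zero_of_vanish T ha (Or.inr h)]; simp
      · rcases lt_or_gt_of_ne h with h | h
        · rw [eq_zero_of_vanish T ha (Or.inr (by omega))]; simp
        · rw [eq_zero_of_vanish T hb (Or.inr h)]; simp
    · exact tr_mul_eq_zero T (pull_mem' T p ha) (pull_mem' T q hb) hij

/-- The trace of a product of two product classes. -/
lemma tr_kunneth_mul (hQ : IsProd p q) (a : T.H X) (d : T.H Y) {j s : ℤ} {b : T.H Y}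
    (hb : b ∈ T.gr Y j) {c : T.H X} (hc : c ∈ T.gr X s) :
    T.tr Q (T.pull p a * T.pull q b * (T.pull p c * T.pull q d)) =
      sgn K (j * s) * (T.tr X (a * c) * T.tr Y (b * d)) := by
  have : T.pull p a * T.pull q b * (T.pull p c * T.pull q d) =
      sgn K (j * s) • (T.pull p (a * c) * T.pull q (b * d)) := by
    rw [map_mul, map_mul, mul_assoc, ← mul_assoc (T.pull q b),
      comm T (pull_mem' T q hb) (pull_mem' T p hc)]
    simp only [smul_mul_assoc, mul_smul_comm, mul_assoc]
  rw [this, map_smul, smul_eq_mul, tr_kunneth T hQ]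

variable (p q) in
/-- Product classes of total degree `m`. -/
def prodSpan (m : ℤ) : Submodule K (T.H Q) :=
  Submodule.span K {x | ∃ (i : ℤ) (a : T.H X) (b : T.H Y), a ∈ T.gr X i ∧ b ∈ T.gr Y (m - i) ∧
    x = T.pull p a * T.pull q b}

variable (p q) in
lemma prodSpan_le (m : ℤ) : prodSpan T p q m ≤ T.gr Q m := by
  refine Submodule.span_le.2 ?_
  rintro _ ⟨i, a, b, ha, hb, rfl⟩
  have := mul_mem T (pull_mem' T p ha) (pull_mem' T q hb)
  rwa [add_sub_cancel] at this

lemma iSup_prodSpan (hQ : IsProd p q) : ⨆ m, prodSpan T p q m = ⊤ := by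
  refine eq_top_iff.2 fun x _ => ?_
  obtain ⟨z, rfl⟩ := (T.kunneth p q hQ).2 x
  have hzero : (Submodule.mkQ (⨆ m, prodSpan T p q m)) ∘ₗ kunnethMap K (T.pull p) (T.pull q) = 0 :=
    TensorProduct.ext (hom_ext T fun i a ha => hom_ext T fun j b hb => by
      simp only [LinearMap.compr₂ₛₗ_apply, LinearMap.coe_comp, Function.comp_apply,
        LinearMap.zero_apply, TensorProduct.mk_apply, Submodule.mkQ_apply,
        Submodule.Quotient.mk_eq_zero]
      exact Submodule.mem_iSup_of_mem (i + j) (Submodule.subset_span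
        ⟨i, a, b, ha, by simpa using hb, by simp [kunnethMap]⟩))
  simpa using LinearMap.congr_fun hzero z

/-- Künneth: classes of degree `m` on a product are combinations of product classes. -/
lemma gr_prod (hQ : IsProd p q) (m : ℤ) : T.gr Q m = prodSpan T p q m := by
  refine le_antisymm (fun x hx => ?_) (prodSpan_le T p q m)
  have hx' : x ∈ ⨆ m', prodSpan T p q m' := by rw [iSup_prodSpan T hQ]; exact Submodule.mem_top
  rw [iSup_split_single _ m, Submodule.mem_sup] at hx'
  obtain ⟨s, hs, r, hr, rfl⟩ := hx'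
  have hr' : r ∈ T.gr Q m := by
    simpa using Submodule.sub_mem _ hx (prodSpan_le T p q m hs)
  have hr'' : r ∈ ⨆ (m' : ℤ) (_ : m' ≠ m), T.gr Q m' :=
    (iSup₂_mono fun m' _ => prodSpan_le T p q m') hr
  have := Submodule.disjoint_def.1 ((T.decomp Q).submodule_iSupIndep m) r hr' hr''
  simpa [this] using hs

/-- Extensionality on a product. -/
lemma prod_ext (hQ : IsProd p q) {m : ℤ} {x y : T.H Q} (hx : x ∈ T.gr Q m) (hy : y ∈ T.gr Q m)
    (h : ∀ (i : ℤ) (a : T.H X) (b : T.H Y), a ∈ T.gr X i → b ∈ T.gr Y (top Q - m - i) →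
      T.tr Q (x * (T.pull p a * T.pull q b)) = T.tr Q (y * (T.pull p a * T.pull q b))) :
    x = y := by
  refine gr_ext T hx hy fun c hc => ?_
  rw [gr_prod T hQ] at hc
  induction hc using Submodule.span_induction with
  | mem z hz => obtain ⟨i, a, b, ha, hb, rfl⟩ := hz; exact h i a b ha hb
  | zero => simp
  | add u v _ _ hu hv => simp [mul_add, hu, hv]
  | smul r u _ hu => simp [hu]

end Kunneth

end WeilLib
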