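import Mathlib.Algebra.MvPolynomial.Expand
import Mathlib.RingTheory.MvPolynomial.Expand
import Mathlib.RingTheory.Algebraic.Integral
import Mathlib.LinearAlgebra.Dimension.Localization
import Mathlib.RingTheory.NoetherNormalization
import Mathlib.Algebra.CharP.Frobenius
import Mathlib.RingTheory.AlgebraicIndependent.TranscendenceBasis
import Mathlib.RingTheory.AlgebraicIndependent.Transcendental

/-!
# The degree of the Frobenius of a finitely generated extension of a perfect field
-/

universe u v w

noncomputable section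

namespace WeilLib

/-- The degree of a ring homomorphism. -/
def hdeg {R : Type u} {S : Type v} [CommRing R] [CommRing S] (f : R →+* S) : ℕ :=
  letI := f.toAlgebra
  Module.finrank R S

section Basic

variable {R : Type u} {S : Type v} {U : Type w} [CommRing R] [CommRing S] [CommRing U]

lemma hdeg_comp [IsDomain U] (f : R →+* S) (g : S →+* U) (hg : Function.Injective g) :
    hdeg (g.comp f) = hdeg f * hdeg g := by
  let := f.toAlgebra
  let := g.toAlgebra
  let := (g.comp f).toAlgebra
  have : IsScalarTower R S U := IsScalarTower.of_algebraMap_eq fun _ => rfl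
  have : FaithfulSMul S U := (faithfulSMul_iff_algebraMap_injective S U).2 hg
  exact (Module.finrank_mul_finrank' (R := R) (S := S) U).symm

lemma hdeg_of_bijective [Nontrivial R] (f : R →+* S) (hf : Function.Bijective f) : hdeg f = 1 := by
  let := f.toAlgebra
  let e : R ≃ₗ[R] S := LinearEquiv.ofBijective (Algebra.linearMap R S) hf
  exact e.finrank_eq.symm.trans (Module.finrank_self R)

lemma hdeg_pos [IsDomain R] [IsDomain S] (f : R →+* S) (hf : Function.Injective f)
    (hfin : f.Finite) : 0 < hdeg f := by
  let := f.toAlgebra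
  have : Module.Finite R S := hfin
  have : FaithfulSMul R S := (faithfulSMul_iff_algebraMap_injective R S).2 hf
  change 0 < Module.finrank R S
  exact Module.finrank_pos

lemma hdeg_eq_card {ι : Type*} [Fintype ι] [StrongRankCondition R] (f : R →+* S) (b : ι → S)
    (h : Function.Bijective fun g : ι → R => ∑ i, f (g i) * b i) : hdeg f = Fintype.card ι := by
  let := f.toAlgebra
  let Φ : (ι → R) →ₗ[R] S := Fintype.linearCombination R b
  have hΦ : Function.Bijective Φ := by
    have : ⇑Φ = fun g : ι → R => ∑ i, f (g i) * b i := funext fun g => by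
      rw [Fintype.linearCombination_apply]
      rfl
    rwa [this]
  exact (LinearEquiv.ofBijective Φ hΦ).finrank_eq.symm.trans (Module.finrank_pi R)

lemma hdeg_fraction {R' : Type*} {S' : Type*} [Field R'] [Field S'] [Algebra R R'] [Algebra S S']
    [IsFractionRing R R'] [IsFractionRing S S'] (f : R →+* S) (f' : R' →+* S')
    (h : ∀ x, f' (algebraMap R R' x) = algebraMap S S' (f x)) : hdeg f' = hdeg f := by
  let := f.toAlgebra
  let := f'.toAlgebra
  let := ((algebraMap S S').comp f).toAlgebra
  have : IsScalarTower R S S' := IsScalarTower.of_algebraMap_eq fun _ => rfl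
  have : IsScalarTower R R' S' := IsScalarTower.of_algebraMap_eq fun x => (h x).symm
  exact IsFractionRing.finrank_eq R R' S S'

end Basic

section Poly

open MvPolynomial

variable (k : Type u) [Field k] {q : ℕ} (hq : q ≠ 0)

include hq in
lemma hdeg_expand (s : ℕ) :
    hdeg (expand q : MvPolynomial (Fin s) k →ₐ[k] MvPolynomial (Fin s) k).toRingHom = q ^ s := by
  classical
  let r : (Fin s → Fin q) → (Fin s →₀ ℕ) := fun e => Finsupp.equivFunOnFinite.symm fun i => (e i : ℕ)
  have hdecomp : ∀ (d : Fin s →₀ ℕ) (e : Fin s → Fin q) (D : Fin s →₀ ℕ),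
      q • D + r e = d ↔ (∀ i, D i = d i / q) ∧ ∀ i, (e i : ℕ) = d i % q := fun d e D => by
    constructor
    · rintro rfl
      have h1 : ∀ i, (q • D + r e) i = q * D i + (e i : ℕ) := fun i => by simp [r]
      refine ⟨fun i => ?_, fun i => ?_⟩
      · rw [h1, Nat.mul_add_div (Nat.pos_of_ne_zero hq), Nat.div_eq_of_lt (e i).2, add_zero]
      · rw [h1, Nat.mul_add_mod, Nat.mod_eq_of_lt (e i).2]
    · rintro ⟨h1, h2⟩
      ext i
      simp [r, h1, h2, Nat.div_add_mod]
  let b : (Fin s → Fin q) → MvPolynomial (Fin s) k := fun e => monomial (r e) 1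
  have hcoeff : ∀ (g : (Fin s → Fin q) → MvPolynomial (Fin s) k) (e : Fin s → Fin q)
      (D : Fin s →₀ ℕ), (∑ i, expand q (g i) * b i).coeff (q • D + r e) = (g e).coeff D := by
    intro g e D
    rw [coeff_sum, Finset.sum_eq_single e]
    · rw [coeff_mul_monomial, mul_one, coeff_expand_smul _ hq]
    · intro e' _ he'
      rw [as_sum (g e'), map_sum, Finset.sum_mul, coeff_sum]
      refine Finset.sum_eq_zero fun D' _ => ?_
      rw [expand_monomial, monomial_mul, coeff_monomial, if_neg]
      intro h
      exact he' (funext fun i => Fin.ext ((((hdecomp _ e' D').1 h).2 i).trans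
        (((hdecomp _ e D).1 rfl).2 i).symm))
    · simp
  have hbij : Function.Bijective
      fun g : (Fin s → Fin q) → MvPolynomial (Fin s) k => ∑ i, expand q (g i) * b i :=
    ⟨fun g g' hg => funext fun e => MvPolynomial.ext _ _ fun D => by
      rw [← hcoeff g e D, ← hcoeff g' e D]
      exact congrArg (coeff (q • D + r e)) hg, fun f => by
      induction f using MvPolynomial.induction_on' with
      | monomial d c =>
        let e : Fin s → Fin q := fun i => ⟨d i % q, Nat.mod_lt _ (Nat.pos_of_ne_zero hq)⟩
        let D : Fin s →₀ ℕ := Finsupp.equivFunOnFinite.symm fun i => d i / q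
        refine ⟨Pi.single e (monomial D c), ?_⟩
        dsimp only
        rw [Finset.sum_eq_single e]
        · rw [Pi.single_eq_same, expand_monomial, monomial_mul, mul_one,
            (hdecomp d e D).2 ⟨fun i => by simp [D], fun i => rfl⟩]
        · intro e' _ he'
          rw [Pi.single_eq_of_ne he', map_zero, zero_mul]
        · simp
      | add f f' hf hf' =>
        obtain ⟨g, rfl⟩ := hf
        obtain ⟨g', rfl⟩ := hf'
        exact ⟨g + g', by simp [add_mul, Finset.sum_add_distrib]⟩⟩
  rw [hdeg_eq_card (expand q : MvPolynomial (Fin s) k →ₐ[k] MvPolynomial (Fin s) k).toRingHom b hbij,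
    Fintype.card_fun, Fintype.card_fin, Fintype.card_fin]

end Poly

section Frobenius

variable (k : Type u) [Field k] {q : ℕ}

open MvPolynomial

/-- A bijective power map of the base field makes the power map of a polynomial ring of degree
`q ^ s`. -/
lemma hdeg_pow_mvPolynomial (hq : q ≠ 0) (s : ℕ) (φk : k →+* k) (hφk : Function.Bijective φk)
    (hk : ∀ a, φk a = a ^ q)
    (φ : MvPolynomial (Fin s) k →+* MvPolynomial (Fin s) k) (hφ : ∀ a, φ a = a ^ q) :
    hdeg φ = q ^ s := by
  have e : φ = (expand q : MvPolynomial (Fin s) k →ₐ[k] MvPolynomial (Fin s) k).toRingHom.comp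
      (map φk) := by
    refine MvPolynomial.ringHom_ext (fun a => ?_) fun i => ?_
    · rw [hφ]; simp [hk, C_pow]
    · rw [hφ]; simp
  rw [e, hdeg_comp _ _ (expand_injective (Nat.pos_of_ne_zero hq)),
    hdeg_of_bijective _ ⟨map_injective φk hφk.1, map_surjective φk hφk.2⟩, one_mul,
    hdeg_expand k hq]

/-- The degree of the `q`-power map of the fraction field of an affine domain of dimension `s`
over a field on which it is bijective is `q ^ s`. -/
theorem hdeg_pow_fractionRing (hq : q ≠ 0) (φk : k →+* k) (hφk : Function.Bijective φk)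
    (hk : ∀ a, φk a = a ^ q)
    (A F : Type u) [CommRing A] [IsDomain A] [Algebra k A] [Algebra.FiniteType k A] [Field F]
    [Algebra A F] [IsFractionRing A F] [Algebra k F] [IsScalarTower k A F]
    (hpow : ∀ (R : Type u) [CommRing R] [Algebra k R], ∃ φ : R →+* R, ∀ a, φ a = a ^ q) {s : ℕ}
    (hs : Algebra.trdeg k F = (s : Cardinal)) (φ : F →+* F) (hφ : ∀ a, φ a = a ^ q) :
    hdeg φ = q ^ s := by
  obtain ⟨t, g, hinj, hfin⟩ := exists_finite_inj_algHom_of_fg k A
  have hts : t = s := by
    letI := g.toRingHom.toAlgebra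
    have : Module.Finite (MvPolynomial (Fin t) k) A := hfin
    have : IsScalarTower k (MvPolynomial (Fin t) k) A :=
      IsScalarTower.of_algebraMap_eq fun x => (g.commutes x).symm
    have : FaithfulSMul (MvPolynomial (Fin t) k) A :=
      (faithfulSMul_iff_algebraMap_injective _ _).2 hinj
    letI : Algebra (MvPolynomial (Fin t) k) F :=
      ((algebraMap A F).comp (algebraMap (MvPolynomial (Fin t) k) A)).toAlgebra
    have : IsScalarTower (MvPolynomial (Fin t) k) A F := IsScalarTower.of_algebraMap_eq' rfl
    have : IsScalarTower k (MvPolynomial (Fin t) k) F := IsScalarTower.of_algebraMap_eq fun x => by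
      rw [IsScalarTower.algebraMap_apply (MvPolynomial (Fin t) k) A F,
        ← IsScalarTower.algebraMap_apply k (MvPolynomial (Fin t) k) A,
        ← IsScalarTower.algebraMap_apply k A F]
    have : FaithfulSMul (MvPolynomial (Fin t) k) F := (faithfulSMul_iff_algebraMap_injective _ _).2
      ((IsFractionRing.injective A F).comp hinj)
    have : Algebra.IsAlgebraic (MvPolynomial (Fin t) k) A := Algebra.IsIntegral.isAlgebraic
    have : Algebra.IsAlgebraic A F := IsLocalization.isAlgebraic F (nonZeroDivisors A)
    have : Algebra.IsAlgebraic (MvPolynomial (Fin t) k) F := Algebra.IsAlgebraic.trans _ A F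
    have h := trdeg_add_eq k (MvPolynomial (Fin t) k) (A := F)
    rw [trdeg_eq_zero (R := MvPolynomial (Fin t) k), add_zero,
      MvPolynomial.trdeg_of_isDomain, hs] at h
    exact_mod_cast (by simpa using h : (t : Cardinal.{u}) = s)
  obtain ⟨φB, hφB⟩ := hpow (MvPolynomial (Fin t) k)
  obtain ⟨φA, hφA⟩ := hpow A
  have hφAinj : Function.Injective φA := by
    rw [injective_iff_map_eq_zero]
    intro a ha
    rw [hφA] at ha
    exact eq_zero_of_pow_eq_zero ha
  have hsq : g.toRingHom.comp φB = φA.comp g.toRingHom :=
    RingHom.ext fun a => by simp [hφA, hφB]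
  have h := congrArg hdeg hsq
  rw [hdeg_comp _ _ hinj, hdeg_comp _ _ hφAinj, hdeg_pow_mvPolynomial k hq t φk hφk hk φB hφB,
    mul_comm (hdeg g.toRingHom)] at h
  rw [hdeg_fraction φA φ (fun x => by rw [hφ, hφA, map_pow]),
    ← Nat.eq_of_mul_eq_mul_right (hdeg_pos g.toRingHom hinj hfin) h, hts]

end Frobenius

end WeilLib
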