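import Groth.Agent.WeilLib.Frob
import Groth.Agent.WeilLib.FrobDeg

/-!
# The degree of the Frobenius and its action on the top degree
-/

universe u v

noncomputable section

open AlgebraicGeometry CategoryTheory WeilCoh

namespace WeilLib

section Generation

variable {k₀ : Type u} [Field k₀] {X : Scheme.{u}} {k : Type u} [Field k] [Algebra k₀ k]

/-- A residue field of a base change is generated by the constants and the residue field below. -/
lemma closure_residueField {f : X ⟶ Spec (CommRingCat.of k₀)} {Xb : Over (Spec (CommRingCat.of k))}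
    {π : Xb.left ⟶ X} (hπ : IsPullback π Xb.hom f (baseMap (k₀ := k₀) k)) (y : Xb.left) :
    Subfield.closure (Set.range (kappaMap Xb y) ∪ Set.range (π.residueFieldMap y)) = ⊤ := by
  set S := Subfield.closure (Set.range (kappaMap Xb y) ∪ Set.range (π.residueFieldMap y))
  let M : CommRingCat.{u} := CommRingCat.of S
  let i : M ⟶ Xb.left.residueField y := CommRingCat.ofHom S.subtype
  let a : X.residueField (π y) ⟶ M := CommRingCat.ofHom
    ((π.residueFieldMap y).hom.codRestrict S fun z =>
      Subfield.subset_closure (Or.inr ⟨z, rfl⟩))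
  let b : CommRingCat.of k ⟶ M := CommRingCat.ofHom
    ((kappaMap Xb y).hom.codRestrict S fun z => Subfield.subset_closure (Or.inl ⟨z, rfl⟩))
  have hai : a ≫ i = π.residueFieldMap y := rfl
  have hbi : b ≫ i = kappaMap Xb y := rfl
  have hy : Spec.map (kappaMap Xb y) = Xb.left.fromSpecResidueField y ≫ Xb.hom :=
    SpecMap_resMap Xb.hom y
  have hinj : Function.Injective i := Subtype.val_injective
  have hcomp : resMap f (π y) ≫ a = CommRingCat.ofHom (algebraMap k₀ k) ≫ b := by
    have e : (resMap f (π y) ≫ a) ≫ i = (CommRingCat.ofHom (algebraMap k₀ k) ≫ b) ≫ i := by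
      rw [Category.assoc, Category.assoc, hai, hbi]
      apply Spec.map_injective
      rw [Spec.map_comp, Spec.map_comp, SpecMap_resMap, hy, ← Category.assoc,
        Scheme.Hom.SpecMap_residueFieldMap_fromSpecResidueField, Category.assoc, Category.assoc,
        hπ.w]
    ext z
    exact ConcreteCategory.congr_hom e z
  let s : Spec M ⟶ Xb.left := hπ.lift (Spec.map a ≫ X.fromSpecResidueField (π y)) (Spec.map b) (by
    rw [Category.assoc, ← SpecMap_resMap, ← Spec.map_comp, hcomp, Spec.map_comp])
  have hs : Spec.map i ≫ s = Xb.left.fromSpecResidueField y := by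
    apply hπ.hom_ext
    · rw [Category.assoc, hπ.lift_fst, ← Category.assoc, ← Spec.map_comp, hai,
        Scheme.Hom.SpecMap_residueFieldMap_fromSpecResidueField]
    · rw [Category.assoc, hπ.lift_snd, ← Spec.map_comp, hbi, hy]
  let z : Spec (Xb.left.residueField y) := IsLocalRing.closedPoint (Xb.left.residueField y)
  let p := Scheme.SpecToEquivOfField S Xb.left s
  have hsp : Spec.map p.2 ≫ Xb.left.fromSpecResidueField p.1 = s :=
    (Scheme.SpecToEquivOfField S Xb.left).symm_apply_apply s
  have hpy : p.1 = y := by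
    have h := congrArg (fun φ : Spec (Xb.left.residueField y) ⟶ Xb.left => φ z) hs
    rw [← hsp] at h
    change Xb.left.fromSpecResidueField p.1 _ = Xb.left.fromSpecResidueField y z at h
    rwa [Scheme.fromSpecResidueField_apply, Scheme.fromSpecResidueField_apply] at h
  let r : Xb.left.residueField y ⟶ M := (Xb.left.residueFieldCongr hpy).inv ≫ p.2
  have hr : Spec.map r ≫ Xb.left.fromSpecResidueField y = s := by
    rw [Spec.map_comp, Category.assoc, Scheme.residueFieldCongr_inv,
      Scheme.residueFieldCongr_fromSpecResidueField]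
    exact hsp
  have hri : r ≫ i = 𝟙 _ := by
    apply Spec.map_injective
    rw [← cancel_mono (Xb.left.fromSpecResidueField y), Spec.map_comp, Category.assoc, hr, hs,
      Spec.map_id, Category.id_comp]
  refine eq_top_iff.2 fun z _ => ?_
  have := ConcreteCategory.congr_hom hri z
  rw [← show i (r z) = z from this]
  exact (r z).2

end Generation

section Degree

variable {k₀ : Type u} [Field k₀] [Finite k₀] {X : Scheme.{u}}
variable {k : Type u} [Field k] [IsAlgClosed k] [Algebra k₀ k]

variable (k₀ k) in
omit [IsAlgClosed k] in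
lemma exists_powHom (R : Type u) [CommRing R] [Algebra k R] :
    ∃ φ : R →+* R, ∀ a, φ a = a ^ Nat.card k₀ := by
  let := Fintype.ofFinite k₀
  let := ((algebraMap k R).comp (algebraMap k₀ k)).toAlgebra
  exact ⟨(FiniteField.frobeniusAlgHom k₀ R).toRingHom, fun a => by
    rw [Nat.card_eq_fintype_card]; rfl⟩

variable {f : X ⟶ Spec (CommRingCat.of k₀)} {FX : X ⟶ X}
variable {Xb : Var k} {π : Xb.obj.left ⟶ X} {F : Xb ⟶ Xb}

/-- The residue degree of the Frobenius at a point is `q` to the dimension of its closure. -/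
theorem residueDegree_frobenius (hFb : FX.base = 𝟙 _) (hle : ∀ U : X.Opens, U ≤ FX ⁻¹ᵁ U)
    (hFapp : ∀ (U : X.Opens) (s : Γ(X, U)), (FX.appLE U U (hle U)).hom s = s ^ Nat.card k₀)
    (hπ : IsPullback π Xb.obj.hom f (baseMap (k₀ := k₀) k)) (hF : sm F ≫ π = π ≫ FX)
    (η : Xb.obj.left) :
    (sm F).residueDegree η = Nat.card k₀ ^ pdim Xb.obj.left η := by
  classical
  have hlft : LocallyOfFiniteType Xb.obj.hom := locallyOfFiniteType_hom Xb
  set q := Nat.card k₀
  have hq : q ≠ 0 := Nat.card_pos.ne'
  let L := Xb.obj.left.residueField η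
  let w := sm F η
  let ψ : Xb.obj.left.residueField w ⟶ L := (sm F).residueFieldMap η
  let ι := kappaMap Xb.obj η
  letI : Algebra k L := ι.hom.toAlgebra
  obtain ⟨φ, hφ⟩ := exists_powHom k₀ k L
  obtain ⟨φk, hφk⟩ := exists_powHom k₀ k k
  have hφkbij : Function.Bijective φk := ⟨φk.injective, fun a => by
    obtain ⟨z, hz⟩ := IsAlgClosed.exists_pow_nat_eq a (Nat.pos_of_ne_zero hq)
    exact ⟨z, by rw [hφk, hz]⟩⟩
  -- the Frobenius upstairs, read through the projection
  have hψι : ∀ a : k, ψ (kappaMap Xb.obj w a) = ι a := fun a =>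
    ConcreteCategory.congr_hom (kappaMap_comp F.hom η) a
  have hst : ∀ x a, stk FX x x (show FX.base x = x by rw [hFb]; rfl) a = a ^ q :=
    fun x a => stk_pow hle hFapp x _ a
  let φ' : L ⟶ L := CommRingCat.ofHom φ
  have hnat : (Spec.map ψ ≫ Xb.obj.left.fromSpecResidueField w) ≫ π =
      Spec.map (π.residueFieldMap η ≫ φ') ≫ X.fromSpecResidueField (π η) := by
    rw [Scheme.Hom.SpecMap_residueFieldMap_fromSpecResidueField, Category.assoc, hF,
      ← Category.assoc, ← Scheme.Hom.SpecMap_residueFieldMap_fromSpecResidueField,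
      Scheme.fromSpecResidueField, ← Category.assoc (Spec.map _), ← Spec.map_comp,
      comp_powEnd _ hst (X.residue (π η) ≫ π.residueFieldMap η) φ' hφ]
    simp only [Spec.map_comp, Category.assoc]
  have hπw : π w = π η := by
    have h := congrArg (fun g : Spec L ⟶ X => g (IsLocalRing.closedPoint L)) hnat
    rw [Category.assoc, ← Scheme.Hom.SpecMap_residueFieldMap_fromSpecResidueField] at h
    change X.fromSpecResidueField (π w) _ = X.fromSpecResidueField (π η) _ at h
    rwa [Scheme.fromSpecResidueField_apply, Scheme.fromSpecResidueField_apply] at h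
  have hψπ : π.residueFieldMap w ≫ ψ =
      (X.residueFieldCongr hπw).hom ≫ π.residueFieldMap η ≫ φ' := by
    apply Spec.map_injective
    rw [← cancel_mono (X.fromSpecResidueField (π w))]
    conv_lhs => rw [Spec.map_comp, Category.assoc,
      Scheme.Hom.SpecMap_residueFieldMap_fromSpecResidueField, ← Category.assoc, hnat]
    simp only [Spec.map_comp, Category.assoc,
      Scheme.residueFieldCongr_fromSpecResidueField]
  -- the image of the Frobenius is the field of `q`-th powers
  have hrange : ψ.hom.fieldRange = φ.fieldRange := by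
    rw [RingHom.fieldRange_eq_map, RingHom.fieldRange_eq_map φ,
      ← closure_residueField hπ w, ← closure_residueField hπ η, RingHom.map_field_closure,
      RingHom.map_field_closure, Set.image_union, Set.image_union, ← Set.range_comp,
      ← Set.range_comp, ← Set.range_comp, ← Set.range_comp]
    congr 2
    · have e1 : ψ.hom ∘ kappaMap Xb.obj w = fun a => ι a := funext hψι
      have e2 : φ ∘ ι = (fun a => ι a) ∘ φk := funext fun a => by
        change φ (ι a) = ι (φk a)
        rw [hφ, hφk, map_pow]
      exact (congrArg Set.range e1).trans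
        ((hφkbij.2.range_comp _).symm.trans (congrArg Set.range e2.symm))
    · have e1 : ψ.hom ∘ π.residueFieldMap w =
          (φ ∘ π.residueFieldMap η) ∘ (X.residueFieldCongr hπw).hom :=
        funext fun a => ConcreteCategory.congr_hom hψπ a
      exact (congrArg Set.range e1).trans
        ((ConcreteCategory.bijective_of_isIso (X.residueFieldCongr hπw).hom).2.range_comp _)
  have hmem : ∀ a, ∃ b, φ b = ψ a := fun a => by
    have : ψ a ∈ φ.fieldRange := hrange ▸ RingHom.mem_fieldRange.2 ⟨a, rfl⟩
    exact RingHom.mem_fieldRange.1 this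
  choose eb heb using hmem
  let e : Xb.obj.left.residueField w →+* L :=
    { toFun := eb
      map_one' := φ.injective (by rw [heb, map_one, map_one])
      map_mul' := fun a b => φ.injective (by rw [heb, map_mul φ, heb, heb, map_mul])
      map_zero' := φ.injective (by rw [heb, map_zero, map_zero])
      map_add' := fun a b => φ.injective (by rw [heb, map_add φ, heb, heb, map_add]) }
  have he : Function.Bijective e := by
    refine ⟨e.injective, fun z => ?_⟩
    have : φ z ∈ ψ.hom.fieldRange := hrange ▸ RingHom.mem_fieldRange.2 ⟨z, rfl⟩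
    obtain ⟨a, ha⟩ := RingHom.mem_fieldRange.1 this
    exact ⟨a, φ.injective ((heb a).trans ha)⟩
  have hψ : ψ.hom = φ.comp e := RingHom.ext fun a => (heb a).symm
  change hdeg ψ.hom = _
  rw [hψ, hdeg_comp _ _ φ.injective, hdeg_of_bijective e he, one_mul]
  -- Noether normalisation on an affine neighbourhood
  obtain ⟨U, hU, hη, -⟩ := exists_isAffineOpen_mem_and_subset (x := η) (U := ⊤) trivial
  letI := (structMap Xb.obj U).hom.toAlgebra
  haveI : Algebra.FiniteType k Γ(Xb.obj.left, U) := structMap_finiteType Xb.obj hU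
  let p := (hU.primeIdealOf ⟨η, hη⟩).asIdeal
  let ev : Γ(Xb.obj.left, U) ⧸ p →+* L :=
    Ideal.Quotient.lift p (Xb.obj.left.evaluation U η hη).hom
      (fun a ha => RingHom.mem_ker.1 ((primeIdealOf_eq_ker hU η hη).le ha))
  letI : Algebra (Γ(Xb.obj.left, U) ⧸ p) L := ev.toAlgebra
  have hev : Function.Injective ev := by
    rw [injective_iff_map_eq_zero]
    intro a ha
    obtain ⟨a, rfl⟩ := Ideal.Quotient.mk_surjective a
    rw [Ideal.Quotient.eq_zero_iff_mem]
    exact (primeIdealOf_eq_ker hU η hη).ge (RingHom.mem_ker.2 ha)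
  haveI : IsFractionRing (Γ(Xb.obj.left, U) ⧸ p) L := by
    have : FaithfulSMul (Γ(Xb.obj.left, U) ⧸ p) L :=
      (faithfulSMul_iff_algebraMap_injective _ _).2 hev
    refine IsFractionRing.of_field _ _ fun z => ?_
    obtain ⟨a, b, hb, hab⟩ := surjective_div_evaluation hU η hη z
    exact ⟨Ideal.Quotient.mk p a, Ideal.Quotient.mk p b, (eq_div_iff hb).2 hab⟩
  haveI : IsScalarTower k (Γ(Xb.obj.left, U) ⧸ p) L :=
    IsScalarTower.of_algebraMap_eq fun x =>
      (ConcreteCategory.congr_hom (structMap_evaluation Xb.obj U η hη) x).symm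
  obtain ⟨s, hs, hs'⟩ := pdim_eq_trdeg Xb.obj η
  have hps : pdim Xb.obj.left η = s := by simp [pdim, natDim, hs]
  rw [hps]
  exact hdeg_pow_fractionRing k hq φk hφkbij hφk (Γ(Xb.obj.left, U) ⧸ p) L
    (fun R _ _ => exists_powHom k₀ k R) hs' φ hφ

/-- The Frobenius fixes the generic point. -/
lemma frobenius_genericPoint (hFb : FX.base = 𝟙 _) (hle : ∀ U : X.Opens, U ≤ FX ⁻¹ᵁ U)
    (hFapp : ∀ (U : X.Opens) (s : Γ(X, U)), (FX.appLE U U (hle U)).hom s = s ^ Nat.card k₀)
    (hπ : IsPullback π Xb.obj.hom f (baseMap (k₀ := k₀) k)) (hF : sm F ≫ π = π ≫ FX)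
    [IrreducibleSpace ↥Xb.obj.left] :
    sm F (genericPoint ↥Xb.obj.left) = genericPoint ↥Xb.obj.left := by
  have hlft : LocallyOfFiniteType Xb.obj.hom := locallyOfFiniteType_hom Xb
  set η := genericPoint ↥Xb.obj.left
  set w := sm F η
  have hdeg : (sm F).residueDegree η ≠ 0 := by
    rw [residueDegree_frobenius hFb hle hFapp hπ hF]
    exact pow_ne_zero _ Nat.card_pos.ne'
  have hpd := pdim_eq_of_residueDegree_ne_zero F.hom η hdeg
  change pdim Xb.obj.left η = pdim Xb.obj.left w at hpd
  rw [pdim_genericPoint] at hpd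
  by_contra hne
  obtain ⟨n, hn⟩ := exists_dim_bound Xb
  let Zw : TopologicalSpace.IrreducibleCloseds ↥Xb.obj.left :=
    ⟨closure {w}, isIrreducible_singleton.closure, isClosed_closure⟩
  let Zη : TopologicalSpace.IrreducibleCloseds ↥Xb.obj.left :=
    ⟨closure {η}, isIrreducible_singleton.closure, isClosed_closure⟩
  have hlt : Zw < Zη := by
    refine lt_of_le_of_ne (fun x hx => ?_) fun h => ?_
    · change x ∈ closure ({η} : Set Xb.obj.left)
      rw [genericPoint_closure]; trivial
    · have hw : w ⤳ η := specializes_iff_mem_closure.2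
        ((congrArg SetLike.coe h).ge (subset_closure rfl))
      exact hne (hw.antisymm (genericPoint_specializes w)).eq
  -- the closure of `w` is a proper closed subset, of smaller dimension
  obtain ⟨s, hs, -⟩ := pdim_eq_trdeg Xb.obj w
  have key : ((s + 1 : ℕ) : WithBot ℕ∞) ≤ topologicalKrullDim ↥Xb.obj.left := by
    obtain ⟨l, hl⟩ : ∃ l : LTSeries (TopologicalSpace.IrreducibleCloseds
        ↥(closure ({w} : Set Xb.obj.left))), l.length = s :=
      Order.le_krullDim_iff.1 hs.ge
    let m := l.map (TopologicalSpace.IrreducibleCloseds.map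
        (Subtype.val : ↥(closure ({w} : Set Xb.obj.left)) → _) continuous_subtype_val)
      (TopologicalSpace.IrreducibleCloseds.map_strictMono_of_isInducing
        Topology.IsInducing.subtypeVal)
    have hm : m.last < Zη := by
      refine lt_of_le_of_lt ?_ hlt
      intro x hx
      change x ∈ closure (Subtype.val '' (l.last : Set ↥(closure ({w} : Set Xb.obj.left)))) at hx
      refine closure_minimal ?_ isClosed_closure hx
      rintro _ ⟨z, _, rfl⟩
      exact z.2
    have hlen : (m.snoc Zη hm).length = s + 1 := by simp [m, hl]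
    rw [← hlen]
    exact Order.LTSeries.length_le_krullDim _
  have hle' : topologicalKrullDim ↥Xb.obj.left ≤ (n : WithBot ℕ∞) := hn
  simp only [pdim, dim, natDim, hs] at hpd
  generalize topologicalKrullDim ↥Xb.obj.left = D at key hle' hpd
  induction D with
  | bot => simp at key
  | coe D =>
    have hD : D ≠ ⊤ := ne_top_of_le_ne_top (ENat.natCast_ne_top n) (WithBot.coe_le_coe.1 hle')
    obtain ⟨d, rfl⟩ := ENat.ne_top_iff_exists.1 hD
    simp at hpd
    have : s + 1 ≤ d := by exact_mod_cast key
    omega

variable {K : Type v} [Field K] [CharZero K] (T : Theory k K)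

/-- The Frobenius acts on traces by `q ^ dim`. -/
theorem tr_pull_frobenius (hFb : FX.base = 𝟙 _) (hle : ∀ U : X.Opens, U ≤ FX ⁻¹ᵁ U)
    (hFapp : ∀ (U : X.Opens) (s : Γ(X, U)), (FX.appLE U U (hle U)).hom s = s ^ Nat.card k₀)
    (hπ : IsPullback π Xb.obj.hom f (baseMap (k₀ := k₀) k)) (hF : sm F ≫ π = π ≫ FX)
    (a : T.H Xb) :
    T.tr Xb (T.pull F a) = (Nat.card k₀ : K) ^ dim Xb.obj.left * T.tr Xb a := by
  have hirr : IrreducibleSpace ↥Xb.obj.left := irreducibleSpace Xb
  set η := genericPoint ↥Xb.obj.left
  refine LinearMap.congr_fun (hom_ext T (f := T.tr Xb ∘ₗ (T.pull F).toLinearMap)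
    (g := ((Nat.card k₀ : K) ^ dim Xb.obj.left) • T.tr Xb) fun i b hb => ?_) a
  change T.tr Xb (T.pull F b) = (Nat.card k₀ : K) ^ dim Xb.obj.left * T.tr Xb b
  by_cases hi : i = top Xb
  · have h := T.cl_push F η b (by rw [pdim_genericPoint]; subst hi; exact hb)
    rw [residueDegree_frobenius hFb hle hFapp hπ hF, pdim_genericPoint,
      frobenius_genericPoint hFb hle hFapp hπ hF, cl_genericPoint, one_mul, one_mul,
      Nat.cast_pow] at h
    exact h
  · rw [tr_of_mem T (pull_mem' T F hb) hi, tr_of_mem T hb hi, mul_zero]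

end Degree

end WeilLib
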